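import Cfsg.Agent.AltTopType.Setting
import Mathlib.GroupTheory.SpecificGroups.Alternating

/-! Centralisers of involutions of alternating groups with all but two or three points moved. -/

set_option autoImplicit false
set_option linter.unusedSectionVars false
set_option linter.unusedSimpArgs false

namespace Cfsg.Lib.AltTop

open Equiv Subgroup

variable {N : ℕ} (a : Perm (Fin N))

/-- The lower points of the transpositions of `a`. -/
abbrev Pairs : Type := {i : Fin N // a i ≠ i ∧ i < a i}

/-- The bit of a point in its pair. -/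
def pbit (x : Fin N) : ZMod 2 := if x < a x then 0 else 1

/-- The sign part. -/
def vPart (c : Perm (Fin N)) : Vec (Pairs a) := fun j => pbit a (c.symm j.1)

variable {a} (ha : ∀ x, a (a x) = x)
include ha

theorem low_or {x : Fin N} (hx : a x ≠ x) : x < a x ∨ a x < a (a x) := by
  rw [ha]
  exact (lt_or_gt_of_ne hx.symm)

/-- The pair of a moved point. -/
def prep (x : Fin N) (hx : a x ≠ x) : Pairs a :=
  if h : x < a x then ⟨x, hx, h⟩ else
    ⟨a x, by rw [ha]; exact hx.symm, (low_or ha hx).resolve_left h⟩

/-- The point with a given pair and bit. -/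
def pnt (j : Pairs a) (b : ZMod 2) : Fin N := if b = 0 then j.1 else a j.1

theorem pbit_low (j : Pairs a) : pbit a j.1 = 0 := by simp [pbit, j.2.2]

theorem pbit_high (j : Pairs a) : pbit a (a j.1) = 1 := by
  rw [pbit, ha, if_neg (not_lt.2 j.2.2.le)]

theorem pnt_moved (j : Pairs a) (b : ZMod 2) : a (pnt j b) ≠ pnt j b := by
  rcases z2 b with rfl | rfl
  · simpa [pnt] using j.2.1
  · simpa [pnt, ha] using j.2.1.symm

theorem prep_pnt (j : Pairs a) (b : ZMod 2) : prep ha _ (pnt_moved ha j b) = j := by
  rcases z2 b with rfl | rfl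
  · simp [pnt, prep, j.2.2]
  · simp only [pnt, prep, if_neg one_ne_zero, ha]
    rw [dif_neg (not_lt.2 j.2.2.le)]

theorem pbit_pnt (j : Pairs a) (b : ZMod 2) : pbit a (pnt j b) = b := by
  rcases z2 b with rfl | rfl
  · simp [pnt, pbit_low ha]
  · simp [pnt, pbit_high ha]

theorem pnt_prep {x : Fin N} (hx : a x ≠ x) : pnt (prep ha x hx) (pbit a x) = x := by
  by_cases h : x < a x
  · simp [prep, pbit, pnt, h]
  · simp [prep, pbit, pnt, h, ha]

theorem a_pnt (j : Pairs a) (b : ZMod 2) : a (pnt j b) = pnt j (b + 1) := by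
  rcases z2 b with rfl | rfl
  · simp [pnt]
  · simp [pnt, ha, z2_add]

theorem card_pairs : 2 * Fintype.card (Pairs a) = a.support.card := by
  classical
  let f : Pairs a × ZMod 2 ≃ {x // x ∈ a.support} :=
    { toFun := fun q => ⟨pnt q.1 q.2, Perm.mem_support.2 (pnt_moved ha q.1 q.2)⟩
      invFun := fun x => (prep ha x.1 (Perm.mem_support.1 x.2), pbit a x.1)
      left_inv := fun q => Prod.ext (prep_pnt ha q.1 q.2) (pbit_pnt ha q.1 q.2)
      right_inv := fun x => Subtype.ext (pnt_prep ha (Perm.mem_support.1 x.2)) }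
  have := Fintype.card_congr f
  rw [Fintype.card_prod, ZMod.card, Fintype.card_coe] at this
  omega

omit ha in
theorem comm_moved {c : Perm (Fin N)} (hc : Commute c a) {x : Fin N} (hx : a x ≠ x) : a (c x) ≠ c x :=
  fun h => hx (c.injective (by rw [← Perm.mul_apply, hc.eq, Perm.mul_apply, h]))

omit ha in
theorem comm_apply {c : Perm (Fin N)} (hc : Commute c a) (x : Fin N) : c (a x) = a (c x) := by
  rw [← Perm.mul_apply, hc.eq, Perm.mul_apply]

/-- The permutation part. -/
def piPart {c : Perm (Fin N)} (hc : Commute c a) : Perm (Pairs a) where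
  toFun j := prep ha (c j.1) (comm_moved hc j.2.1)
  invFun j := prep ha (c.symm j.1) (comm_moved hc.inv_left j.2.1)
  left_inv j := by
    have hm := comm_moved hc j.2.1
    by_cases h : c j.1 < a (c j.1)
    · simp [prep, h, j.2.2]
    · have : c.symm (a (c j.1)) = a j.1 := by rw [symm_apply_eq, comm_apply hc]
      simp [prep, h, this, ha, not_lt.2 j.2.2.le]
  right_inv j := by
    by_cases h : c.symm j.1 < a (c.symm j.1)
    · simp [prep, h, j.2.2]
    · have : c (a (c.symm j.1)) = a j.1 := by rw [comm_apply hc, apply_symm_apply]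
      simp [prep, h, this, ha, not_lt.2 j.2.2.le]

theorem apply_symm_pnt {c : Perm (Fin N)} (hc : Commute c a) (j : Pairs a) :
    c.symm j.1 = pnt ((piPart ha hc).symm j) (vPart a c j) :=
  (pnt_prep ha (comm_moved hc.inv_left j.2.1)).symm

theorem symm_pnt {c : Perm (Fin N)} (hc : Commute c a) (j : Pairs a) (b : ZMod 2) :
    c.symm (pnt j b) = pnt ((piPart ha hc).symm j) (vPart a c j + b) := by
  rcases z2 b with rfl | rfl
  · rw [add_zero, ← apply_symm_pnt ha hc]; simp [pnt]
  · rw [← a_pnt ha, ← apply_symm_pnt ha hc]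
    simp only [pnt, if_neg one_ne_zero]
    rw [symm_apply_eq, comm_apply hc, apply_symm_apply]

theorem part_mul {c d : Perm (Fin N)} (hc : Commute c a) (hd : Commute d a) :
    piPart ha (hc.mul_left hd) = piPart ha hc * piPart ha hd ∧
      vPart a (c * d) = vPart a c + pa (piPart ha hc) (vPart a d) := by
  have key : ∀ j : Pairs a, pnt ((piPart ha (hc.mul_left hd)).symm j) (vPart a (c * d) j) =
      pnt ((piPart ha hd).symm ((piPart ha hc).symm j))
        (vPart a d ((piPart ha hc).symm j) + vPart a c j) := by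
    intro j
    rw [← symm_pnt ha hd, ← apply_symm_pnt ha hc, ← apply_symm_pnt ha (hc.mul_left hd)]
    rfl
  constructor
  · have h : (piPart ha (hc.mul_left hd)).symm = (piPart ha hc * piPart ha hd).symm := by
      ext1 j
      have hj := prep_pnt ha ((piPart ha (hc.mul_left hd)).symm j) (vPart a (c * d) j)
      have hj' := prep_pnt ha ((piPart ha hd).symm ((piPart ha hc).symm j))
        (vPart a d ((piPart ha hc).symm j) + vPart a c j)
      rw [← hj]
      simp only [key j]
      exact hj'
    exact Equiv.symm_bijective.injective h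
  · funext j
    have := congrArg (pbit a) (key j)
    rw [pbit_pnt ha, pbit_pnt ha] at this
    rw [this, Pi.add_apply, pa_apply, add_comm]

theorem part_surj (w : Vec (Pairs a)) (p : Perm (Pairs a)) {u₁ u₂ : Fin N} (h₁ : a u₁ = u₁) (h₂ : a u₂ = u₂)
    (hu : u₁ ≠ u₂) : ∃ c : Perm (Fin N), ∃ hc : Commute c a, Perm.sign c = 1 ∧
      vPart a c = w ∧ piPart ha hc = p := by
  classical
  let f : Fin N → Fin N := fun x =>
    if h : a x ≠ x then pnt (p (prep ha x h)) (pbit a x + w (p (prep ha x h))) else x
  have hf : Function.Injective f := by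
    intro x y h
    by_cases hx : a x ≠ x <;> by_cases hy : a y ≠ y
    · simp only [f, dif_pos hx, dif_pos hy] at h
      have h1 : p (prep ha x hx) = p (prep ha y hy) := by
        have e1 := prep_pnt ha (p (prep ha x hx)) (pbit a x + w (p (prep ha x hx)))
        have e2 := prep_pnt ha (p (prep ha y hy)) (pbit a y + w (p (prep ha y hy)))
        rw [← e1, ← e2]
        simp only [h]
      have h2 := congrArg (pbit a) h
      rw [pbit_pnt ha, pbit_pnt ha, h1, add_left_inj] at h2
      rw [← pnt_prep ha hx, ← pnt_prep ha hy, p.injective h1, h2]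
    · simp only [f, dif_pos hx, dif_neg hy] at h
      exact absurd (h ▸ pnt_moved ha _ _) hy
    · simp only [f, dif_neg hx, dif_pos hy] at h
      exact absurd (h.symm ▸ pnt_moved ha _ _) hx
    · simp only [f, dif_neg hx, dif_neg hy] at h; exact h
  let c : Perm (Fin N) := Equiv.ofBijective f (Finite.injective_iff_bijective.1 hf)
  have hcp : ∀ (j : Pairs a) (b : ZMod 2), c (pnt j b) = pnt (p j) (b + w (p j)) := by
    intro j b
    show f (pnt j b) = _
    simp only [f, dif_pos (pnt_moved ha j b), prep_pnt ha, pbit_pnt ha]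
  have hca : Commute c a := by
    refine Equiv.ext fun x => ?_
    simp only [Perm.mul_apply]
    by_cases hx : a x ≠ x
    · rw [← pnt_prep ha hx, a_pnt ha, hcp, hcp, a_pnt ha, add_right_comm]
    · have : f x = x := dif_neg hx
      show f (a x) = a (f x)
      rw [not_not.1 hx, this, not_not.1 hx]
  let d : Perm (Fin N) := if Perm.sign c = 1 then c else c * swap u₁ u₂
  have hsw : Commute (swap u₁ u₂) a := by
    refine Equiv.ext fun x => ?_
    simp only [Perm.mul_apply]
    rcases eq_or_ne x u₁ with rfl | e1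
    · rw [h₁, swap_apply_left, h₂]
    rcases eq_or_ne x u₂ with rfl | e2
    · rw [h₂, swap_apply_right, h₁]
    rw [swap_apply_of_ne_of_ne e1 e2, swap_apply_of_ne_of_ne]
    · exact fun h => e1 (a.injective (h.trans h₁.symm))
    · exact fun h => e2 (a.injective (h.trans h₂.symm))
  have hd : Commute d a := by
    by_cases h : Perm.sign c = 1
    · simp only [d, if_pos h]; exact hca
    · simp only [d, if_neg h]; exact hca.mul_left hsw
  have hdp : ∀ (j : Pairs a) (b : ZMod 2), d (pnt j b) = pnt (p j) (b + w (p j)) := by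
    intro j b
    by_cases h : Perm.sign c = 1
    · simp only [d, if_pos h]; exact hcp j b
    · simp only [d, if_neg h, Perm.mul_apply]
      rw [swap_apply_of_ne_of_ne, hcp]
      · exact fun k => pnt_moved ha j b (k ▸ h₁)
      · exact fun k => pnt_moved ha j b (k ▸ h₂)
  have hds : ∀ j : Pairs a, d.symm j.1 = pnt (p.symm j) (w j) := fun j => by
    rw [symm_apply_eq, hdp, apply_symm_apply, z2_add]
    simp [pnt]
  refine ⟨d, hd, ?_, funext fun j => ?_, ?_⟩
  · by_cases h : Perm.sign c = 1
    · simp only [d, if_pos h]; exact h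
    · simp only [d, if_neg h, map_mul, Perm.sign_swap hu]
      rw [(Int.units_eq_one_or _).resolve_left h]; rfl
  · show pbit a (d.symm j.1) = w j
    rw [hds, pbit_pnt ha]
  · have h : (piPart ha hd).symm = p.symm := by
      ext1 j
      show prep ha (d.symm j.1) (comm_moved hd.inv_left j.2.1) = p.symm j
      simp only [hds]
      exact prep_pnt ha _ _
    exact Equiv.symm_bijective.injective h

theorem part_ker {c : Perm (Fin N)} (hc : Commute c a) (hv : vPart a c = 0) (hπ : piPart ha hc = 1)
    (hsign : Perm.sign c = 1) (hfix : N ≤ a.support.card + 3) : Odd (orderOf c) := by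
  classical
  have hmove : ∀ x, a x ≠ x → c x = x := by
    intro x hx
    have h := symm_pnt ha hc (prep ha x hx) (pbit a x)
    rw [pnt_prep ha hx, hv, hπ, Pi.zero_apply, zero_add, symm_apply_eq] at h
    have h' : pnt ((1 : Perm (Pairs a)).symm (prep ha x hx)) (pbit a x) = x := pnt_prep ha hx
    rw [h'] at h
    exact h.symm
  have hsupp : c.support.card ≤ 3 := by
    have hsub : c.support ⊆ Finset.univ \ a.support := fun x hx => by
      rw [Perm.mem_support] at hx
      simp only [Finset.mem_sdiff, Finset.mem_univ, true_and, Perm.mem_support, not_not]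
      by_contra h
      exact hx (hmove x h)
    have := Finset.card_le_card hsub
    rw [Finset.card_sdiff_of_subset (Finset.subset_univ _), Finset.card_univ, Fintype.card_fin] at this
    omega
  rcases Nat.lt_or_ge c.support.card 2 with h | h
  · have : c = 1 := Perm.support_eq_empty_iff.1 (Finset.card_eq_zero.1 (by
      have := Perm.card_support_ne_one c; omega))
    rw [this, orderOf_one]; exact odd_one
  rcases Nat.lt_or_ge c.support.card 3 with h' | h'
  · obtain ⟨x, y, hxy, rfl⟩ := Perm.card_support_eq_two.1 (show c.support.card = 2 by omega)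
    rw [Perm.sign_swap hxy] at hsign
    exact absurd hsign (by decide)
  · rw [(card_support_eq_three_iff.1 (show c.support.card = 3 by omega)).orderOf]
    exact ⟨1, rfl⟩

/-- The setting attached to an isomorphism with the centraliser of `a`. -/
theorem exists_setting {G : Type*} [Group G] [Finite G] {t : G} (ht : orderOf t = 2)
    (hn : 0 < Fintype.card (Pairs a)) (hev : Even (Fintype.card (Pairs a)))
    {u₁ u₂ : Fin N} (h₁ : a u₁ = u₁) (h₂ : a u₂ = u₂) (hu : u₁ ≠ u₂) (hfix : N ≤ a.support.card + 3)
    {ga : ↥(alternatingGroup (Fin N))} (hga : (ga : Perm (Fin N)) = a)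
    (e : ↥(centralizer ({t} : Set G)) ≃* ↥(centralizer ({ga} : Set ↥(alternatingGroup (Fin N))))) :
    Nonempty (Setting t (Pairs a)) := by
  classical
  subst hga
  set K := centralizer ({ga} : Set ↥(alternatingGroup (Fin N)))
  have hcm : ∀ k : K, Commute ((k.1 : Perm (Fin N))) (ga : Perm (Fin N)) := fun k =>
    congrArg Subtype.val (mem_centralizer_singleton_iff.1 k.2)
  let v0 : K → Vec (Pairs (ga : Perm (Fin N))) := fun k => vPart (ga : Perm (Fin N)) (k.1 : Perm (Fin N))
  let p0 : K → Perm (Pairs (ga : Perm (Fin N))) := fun k => piPart ha (hcm k)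
  let v : G → Vec (Pairs (ga : Perm (Fin N))) := fun g =>
    if h : g ∈ centralizer ({t} : Set G) then v0 (e ⟨g, h⟩) else 0
  let π : G → Perm (Pairs (ga : Perm (Fin N))) := fun g =>
    if h : g ∈ centralizer ({t} : Set G) then p0 (e ⟨g, h⟩) else 1
  have hv : ∀ {g} (h : g ∈ centralizer ({t} : Set G)), v g = v0 (e ⟨g, h⟩) := fun h => dif_pos h
  have hp : ∀ {g} (h : g ∈ centralizer ({t} : Set G)), π g = p0 (e ⟨g, h⟩) := fun h => dif_pos h
  have hmul : ∀ k k' : K, p0 (k * k') = p0 k * p0 k' ∧ v0 (k * k') = v0 k + pa (p0 k) (v0 k') :=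
    fun k k' => part_mul ha (hcm k) (hcm k')
  have hsurj : ∀ w p, ∃ k : K, v0 k = w ∧ p0 k = p := fun w p => by
    obtain ⟨c, hc, hs, hcv, hcp⟩ := part_surj ha w p h₁ h₂ hu
    exact ⟨⟨⟨c, Perm.mem_alternatingGroup.2 hs⟩, mem_centralizer_singleton_iff.2 (Subtype.ext hc)⟩, hcv, hcp⟩
  have hker : ∀ k : K, v0 k = 0 → p0 k = 1 → Odd (orderOf k) := fun k h0 h1 => by
    rw [← Subgroup.orderOf_coe, ← Subgroup.orderOf_coe]
    exact part_ker ha (hcm k) h0 h1 (Perm.mem_alternatingGroup.1 k.1.2) hfix
  have htC : t ∈ centralizer ({t} : Set G) := mem_centralizer_singleton_iff.2 rfl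
  set T := e ⟨t, htC⟩ with hT
  have hTc : ∀ k : K, T * k = k * T := fun k => by
    obtain ⟨g, rfl⟩ := e.surjective k
    rw [hT, ← map_mul, ← map_mul]
    exact congrArg e (Subtype.ext (mem_centralizer_singleton_iff.1 g.2).symm)
  have hp1 : p0 T = 1 := by
    refine Equiv.ext fun i => ?_
    by_contra hi
    obtain ⟨k, hkv, hkp⟩ := hsurj (AltTop.e i) 1
    have h := congrArg v0 (hTc k)
    rw [(hmul T k).2, (hmul k T).2, hkv, hkp] at h
    have h' := congrFun h (p0 T i)
    simp only [Pi.add_apply, pa_apply, symm_apply_apply, Perm.one_symm, Perm.one_apply, e_same, e_ne (show p0 T i ≠ i from hi), zero_add] at h'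
    exact one_ne_zero (add_eq_left.1 h')
  have hv1 : v0 T = 1 := by
    have hconst : ∀ i j, v0 T i = v0 T j := fun i j => by
      obtain ⟨k, hkv, hkp⟩ := hsurj 0 (swap i j)
      have h := congrArg v0 (hTc k)
      rw [(hmul T k).2, (hmul k T).2, hkv, hkp, map_zero, add_zero, zero_add] at h
      have := congrFun h i
      rwa [pa_apply, symm_swap, swap_apply_left] at this
    obtain ⟨i⟩ := Fintype.card_pos_iff.1 hn
    rcases z2 (v0 T i) with h | h
    · have hodd := hker T (funext fun j => (hconst j i).trans h) hp1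
      rw [hT, MulEquiv.orderOf_eq, ← Subgroup.orderOf_coe, ht] at hodd
      exact absurd hodd (by decide)
    · exact funext fun j => (hconst j i).trans h
  exact ⟨{
    v := v
    π := π
    π_mul := fun {g h} hg hh => by
      rw [hp (mul_mem hg hh), hp hg, hp hh, ← (hmul _ _).1, ← map_mul]
    v_mul := fun {g h} hg hh => by
      rw [hv (mul_mem hg hh), hv hg, hv hh, hp hg, ← (hmul _ _).2, ← map_mul]; rfl
    surj := fun w p => by
      obtain ⟨k, hk1, hk2⟩ := hsurj w p
      refine ⟨(e.symm k).1, (e.symm k).2, ?_, ?_⟩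
      · rw [hv (e.symm k).2]; simpa using hk1
      · rw [hp (e.symm k).2]; simpa using hk2
    ker_odd := fun {g} hg h0 h1 => by
      have := hker (e ⟨g, hg⟩) ((hv hg).symm.trans h0) ((hp hg).symm.trans h1)
      rwa [MulEquiv.orderOf_eq, ← Subgroup.orderOf_coe] at this
    v_t := (hv htC).trans hv1
    π_t := (hp htC).trans hp1
    ev := hev
    ne := Fintype.card_pos_iff.1 hn }⟩

end Cfsg.Lib.AltTop
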