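import Cfsg.Agent.AltTopType.FrameTop

/-! The orbits of a trivial frame. -/

set_option autoImplicit false
set_option linter.unusedSectionVars false
set_option linter.unusedSimpArgs false

namespace Cfsg.Lib.AltTop

open Equiv

variable {ι : Type*} [Fintype ι] [DecidableEq ι]

/-- The invariant: half the weight, rounded up. -/
def kap (v : Vec ι) : ℕ := (wt v + 1) / 2

/-- The vectors of the orbit of one. -/
def topVec : Option ι → Vec ι
  | none => 1
  | some i => 1 + e i

/-- The indicator of the proper points of a set. -/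
def ind (X : Finset (Option ι)) : Vec ι := fun i => if some i ∈ X then 1 else 0

theorem e_ne_zero (i : ι) : e i ≠ 0 := fun h => by
  have := congrFun h i
  rw [e_same] at this
  exact one_ne_zero this

theorem e_inj {i j : ι} (h : e i = e j) : i = j := by
  by_contra hne
  have := congrFun h i
  rw [e_same, e_ne hne] at this
  exact one_ne_zero this

theorem topVec_injective : Function.Injective (topVec (ι := ι)) := by
  rintro (_ | i) (_ | j) h
  · rfl
  · exact absurd (add_eq_left.1 h.symm) (e_ne_zero j)
  · exact absurd (add_eq_left.1 h) (e_ne_zero i)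
  · rw [e_inj (add_left_cancel h)]

theorem sum_topVec {X : Finset (Option ι)} (hX : Even X.card) : ∑ x ∈ X, topVec x = ind X := by
  funext i
  have h : ∀ x : Option ι, topVec x i = 1 + if x = some i then 1 else 0 := by
    rintro (_ | j)
    · simp [topVec]
    · rcases eq_or_ne i j with rfl | hne
      · simp [topVec, e_same]
      · simp [topVec, e_ne hne, hne.symm]
  rw [Finset.sum_apply, Finset.sum_congr rfl fun x _ => h x, Finset.sum_add_distrib]
  obtain ⟨k, hk⟩ := hX
  simp [hk, z2_add, ind, Finset.sum_ite_eq']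

theorem wt_ind (X : Finset (Option ι)) :
    wt (ind X) + (if none ∈ X then 1 else 0) = X.card := by
  have h : (Finset.univ.filter fun i => ind X i ≠ 0) = Finset.eraseNone X := by
    ext i
    simp [ind]
  rw [wt, h]
  by_cases hn : none ∈ X
  · rw [if_pos hn]
    have : X = insert none ((Finset.eraseNone X).map Function.Embedding.some) := by
      ext (_ | i) <;> simp [hn]
    conv_rhs => rw [this]
    rw [Finset.card_insert_of_notMem (by simp), Finset.card_map]
  · rw [if_neg hn, add_zero]
    have : X = (Finset.eraseNone X).map Function.Embedding.some := by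
      ext (_ | i) <;> simp [hn]
    conv_rhs => rw [this]
    rw [Finset.card_map]

theorem kap_ind {X : Finset (Option ι)} (hX : Even X.card) : kap (ind X) = X.card / 2 := by
  have := wt_ind X
  obtain ⟨k, hk⟩ := hX
  rw [kap]
  split_ifs at this <;> omega

theorem exists_ind (v : Vec ι) : ∃ X : Finset (Option ι), Even X.card ∧ ind X = v := by
  classical
  set A := (Finset.univ.filter fun i => v i ≠ 0).map Function.Embedding.some with hA
  have hiA : ind A = v := funext fun i => by
    rcases z2 (v i) with h | h <;> simp [ind, hA, h]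
  rcases Nat.even_or_odd A.card with h | h
  · exact ⟨A, h, hiA⟩
  · refine ⟨insert none A, ?_, ?_⟩
    · rw [Finset.card_insert_of_notMem (by simp [hA])]
      exact h.add_one
    · rw [← hiA]
      funext i
      simp [ind]

theorem exists_kap {k : ℕ} (hk : 2 * k ≤ Fintype.card ι) : ∃ v : Vec ι, kap v = k := by
  obtain ⟨A, -, hA⟩ := Finset.exists_subset_card_eq (s := (Finset.univ : Finset ι)) (by simpa using hk)
  refine ⟨ind (A.map Function.Embedding.some), ?_⟩
  rw [kap_ind] <;> simp [hA]

theorem kap_pos {v : Vec ι} (hv : v ≠ 0) : 1 ≤ kap v := by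
  obtain ⟨i, hi⟩ := Function.ne_iff.1 hv
  have : 1 ≤ wt v := Finset.card_pos.2 ⟨i, by simp only [Finset.mem_filter, Finset.mem_univ, true_and]; exact hi⟩
  rw [kap]; omega

theorem kap_le (v : Vec ι) : kap v ≤ (Fintype.card ι + 1) / 2 := by
  have : wt v ≤ Fintype.card ι := Finset.card_le_univ _
  rw [kap]; omega

namespace Frame

variable {m : Perm ι} (F : Frame m)
include F

/-- The shapes of the members of the orbit in a trivial frame. -/
theorem exists_shape (hm : ∀ i, m i = i) {u : Vec ι} (hu : F.Om u) (hu1 : u ≠ 1) :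
    ∃ k, u = e k ∨ u = 1 + e k := by
  have hodd := F.oddW_of_trivial hm
  have hL := hodd u hu (fun i => by rw [hm]) hu1
  have hu0 : u ≠ 0 := fun h => by rw [h, L_zero] at hL; exact zero_ne_one hL
  obtain ⟨i, hi⟩ := Function.ne_iff.1 hu0
  obtain ⟨j, hj⟩ := Function.ne_iff.1 hu1
  have hi : u i = 1 := (z2 _).resolve_left hi
  have hj : u j = 0 := (z2 _).resolve_right hj
  rcases (F.L_of_notConst hodd hu (hm i) (hm j) hi hj).2 with h | h
  · refine ⟨i, .inl (funext fun x => ?_)⟩
    rcases eq_or_ne x i with rfl | hx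
    · rw [hi, e_same]
    · rw [h x (hm x) hx, e_ne hx]
  · refine ⟨j, .inr (funext fun x => ?_)⟩
    rcases eq_or_ne x j with rfl | hx
    · rw [hj, Pi.add_apply, Pi.one_apply, e_same]; decide
    · rw [h x (hm x) hx, Pi.add_apply, Pi.one_apply, e_ne hx, add_zero]

theorem shape (hm : ∀ i, m i = i) {k : ι} (hk : F.Om (1 + e k)) {u : Vec ι} (hu : F.Om u) :
    u = 1 ∨ ∃ i, u = 1 + e i := by
  by_cases hu1 : u = 1
  · exact .inl hu1
  obtain ⟨i, rfl | rfl⟩ := F.exists_shape hm hu hu1
  swap
  · exact .inr ⟨i, rfl⟩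
  refine .inr ?_
  by_cases h2 : ∃ j l, j ≠ i ∧ l ≠ i ∧ j ≠ l
  · exfalso
    obtain ⟨j, l, hji, hli, hjl⟩ := h2
    have hj : F.Om (1 + e j) := by
      have h := F.om_pa (σ := swap k j) (fun x => by simp [hm]) hk
      rwa [map_add, pa_one, pa_e, swap_apply_left] at h
    obtain ⟨f, hf, hfu⟩ := hu
    have hall : ∀ x, 1 + e j + e i ≠ (0 : Vec ι) → (1 + e j + e i : Vec ι) x = 1 → f 1 x = 0 := by
      intro x _ hx
      rw [hfu, e_ne]
      rintro rfl
      simp [e_same, e_ne hji.symm, z2_add] at hx
    have hv0 : 1 + e j + e i ≠ (0 : Vec ι) := fun h => by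
      have := congrFun h l
      simp [e_ne hjl.symm, e_ne hli] at this
    have hc := F.sum_centres hf (1 + e j + e i) (fun x => by rw [hm])
      (by rw [L_add, L_add, F.L_one, L_e, L_e, if_pos (hm j), if_pos (hm i)]; decide)
      (fun x _ h => absurd (hm x) h)
      (fun x y hx hy _ _ => by rw [hall x hv0 hx, hall y hv0 hy])
    have hom := F.om_map (F.symm hf) hj
    have hsplit : f.symm (1 + e j) = 1 + f.symm (1 + e j + e i) := by
      have hei : f.symm (e i) = 1 := by rw [← hfu, AddEquiv.symm_apply_apply]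
      rw [map_add f.symm (1 + e j) (e i), hei, add_comm _ (1 : Vec ι), vec_cancel]
    rw [hsplit] at hom
    by_cases hne : (1 : Vec ι) + f.symm (1 + e j + e i) = 1
    · rw [add_eq_left, map_eq_zero_iff _ f.symm.injective] at hne
      exact hv0 hne
    · have := F.oddW_of_trivial hm _ hom ((flat_one m).add hc.1) hne
      rw [L_add, F.L_one, hc.2.1] at this
      exact absurd this (by decide)
  · push Not at h2
    obtain ⟨j, hji⟩ : ∃ j, j ≠ i := by
      by_contra h
      push Not at h
      exact hu1 (funext fun x => by rw [h x, e_same, Pi.one_apply])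
    refine ⟨j, funext fun x => ?_⟩
    rcases eq_or_ne x i with rfl | hx
    · simp [e_same, e_ne hji.symm]
    · rw [e_ne hx, h2 x j hx hji, Pi.add_apply, e_same, Pi.one_apply]
      decide

section Count

variable (hm : ∀ i, m i = i) (h1 : ∀ u, F.Om u → u = 1 ∨ ∃ i, u = 1 + e i)
  (h2 : ∀ i, F.Om (1 + e i))
include hm h1 h2

theorem om_topVec (x : Option ι) : F.Om (topVec x) := by
  rcases x with _ | i
  · exact F.om_one
  · exact h2 i

theorem exists_image {f : Vec ι ≃+ Vec ι} (hf : f ∈ F.R) :
    ∃ p : Option ι → Option ι, Function.Injective p ∧ ∀ x, f (topVec x) = topVec (p x) := by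
  have : ∀ x, ∃ y, f (topVec x) = topVec y := by
    intro x
    rcases h1 _ (F.om_map hf (F.om_topVec hm h1 h2 x)) with h | ⟨i, h⟩
    · exact ⟨none, h⟩
    · exact ⟨some i, h⟩
  choose p hp using this
  exact ⟨p, fun x y h => topVec_injective (f.injective (by rw [hp, hp, h])), hp⟩

theorem map_ind {f : Vec ι ≃+ Vec ι} {p : Option ι → Option ι} (hp : Function.Injective p)
    (hfp : ∀ x, f (topVec x) = topVec (p x)) {X : Finset (Option ι)} (hX : Even X.card) :
    f (ind X) = ind (X.image p) := by
  rw [← sum_topVec hX, ← sum_topVec (by rwa [Finset.card_image_of_injective _ hp]), map_sum,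
    Finset.sum_image fun x _ y _ h => hp h]
  exact Finset.sum_congr rfl fun x _ => hfp x

theorem kap_map {f : Vec ι ≃+ Vec ι} (hf : f ∈ F.R) (v : Vec ι) : kap (f v) = kap v := by
  obtain ⟨p, hp, hfp⟩ := F.exists_image hm h1 h2 hf
  obtain ⟨X, hX, rfl⟩ := exists_ind v
  rw [F.map_ind hm h1 h2 hp hfp hX, kap_ind hX, kap_ind (by rwa [Finset.card_image_of_injective _ hp]),
    Finset.card_image_of_injective _ hp]

theorem exists_without_none {X : Finset (Option ι)} (hX : Even X.card) :
    ∃ f ∈ F.R, ∃ Y : Finset (Option ι), Y.card = X.card ∧ none ∉ Y ∧ f (ind X) = ind Y := by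
  by_cases hn : none ∈ X
  · obtain ⟨i, hi⟩ : ∃ i, some i ∉ X := by
      by_contra h
      push Not at h
      have hu : X = Finset.univ := Finset.eq_univ_iff_forall.2 fun x => by cases x <;> simp [hn, h]
      rw [hu, Finset.card_univ, Fintype.card_option] at hX
      exact (Nat.even_add_one.1 hX) F.even
    obtain ⟨g, hg, hgi⟩ := h2 i
    obtain ⟨p, hp, hfp⟩ := F.exists_image hm h1 h2 (F.symm hg)
    refine ⟨g.symm, F.symm hg, X.image p, Finset.card_image_of_injective _ hp, ?_,
      F.map_ind hm h1 h2 hp hfp hX⟩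
    intro hmem
    obtain ⟨x, hx, hpx⟩ := Finset.mem_image.1 hmem
    have : p (some i) = none := topVec_injective (by
      rw [← hfp]; exact (congrArg g.symm hgi).symm.trans (g.symm_apply_apply 1))
    exact hi (hp (hpx.trans this.symm) ▸ hx)
  · exact ⟨pa 1, F.perm 1 (fun _ => rfl), X, rfl, hn, rfl⟩

theorem kap_trans {v w : Vec ι} (h : kap v = kap w) : ∃ f ∈ F.R, f v = w := by
  obtain ⟨X, hX, rfl⟩ := exists_ind v
  obtain ⟨Y, hY, rfl⟩ := exists_ind w
  rw [kap_ind hX, kap_ind hY] at h
  obtain ⟨f, hf, X', hX', hnX, hfX⟩ := F.exists_without_none hm h1 h2 hX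
  obtain ⟨g, hg, Y', hY', hnY, hgY⟩ := F.exists_without_none hm h1 h2 hY
  have hcard : (Finset.eraseNone X').card = (Finset.eraseNone Y').card := by
    obtain ⟨a, ha⟩ := hX
    obtain ⟨b, hb⟩ := hY
    rw [Finset.card_eraseNone_of_not_mem hnX, Finset.card_eraseNone_of_not_mem hnY, hX', hY']
    omega
  let eqv := Finset.equivOfCardEq hcard
  let σ : Perm ι := eqv.extendSubtype
  have hσ : pa σ (ind X') = ind Y' := by
    funext i
    obtain ⟨i, rfl⟩ := σ.surjective i
    rw [pa_apply, symm_apply_apply]
    by_cases hi : i ∈ Finset.eraseNone X'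
    · have := eqv.extendSubtype_mem i hi
      simp only [Finset.mem_eraseNone] at hi this
      simp [ind, hi, this, σ]
    · have := eqv.extendSubtype_not_mem i hi
      simp only [Finset.mem_eraseNone] at hi this
      simp [ind, hi, this, σ]
  refine ⟨(f.trans (pa σ)).trans g.symm, F.trans (F.trans hf (F.perm σ fun x => by simp [hm])) (F.symm hg), ?_⟩
  show g.symm (pa σ (f (ind X))) = ind Y
  rw [hfX, hσ, ← hgY, AddEquiv.symm_apply_apply]

end Count

end Frame

end Cfsg.Lib.AltTop
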