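import Cfsg.Agent.AltTopType.FrameTop

/-! Moving every vector of a linear frame into the flat part. -/

set_option autoImplicit false
set_option linter.unusedSectionVars false
set_option linter.unusedSimpArgs false

namespace Cfsg.Lib.AltTop

open Equiv

variable {ι : Type*} [Fintype ι] [DecidableEq ι]

namespace Frame

variable {m : Perm ι} (F : Frame m)
include F

/-- At every moved pair the orbit has a member that is constant off that pair. -/
def Exu : Prop := ∀ a, m a ≠ a → ∃ u, F.Om u ∧ u a ≠ u (m a) ∧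
  ∀ i j, i ≠ a → i ≠ m a → j ≠ a → j ≠ m a → u i = u j

theorem flat_step (hodd : F.OddW) {a : ι} (ha : m a ≠ a) {u : Vec ι} (hu : F.Om u) (hua : u a = 1)
    (hub : u (m a) = 0) (hconst : ∀ i j, i ≠ a → i ≠ m a → j ≠ a → j ≠ m a → u i = u j)
    {v : Vec ι} (hv : half m v a = 1) :
    ∃ g ∈ F.R, (∀ x, L m (g x) = L m x) ∧ half m (g v) a = 0 ∧
      ∀ i, i ≠ a → i ≠ m a → half m (g v) i = half m v i := by
  obtain ⟨f, hf, rfl⟩ := hu
  set u := f 1 with hu
  have hnf : ¬ Flat m (f.symm 1) := fun h => by
    have := F.stab f hf h 1 (flat_one m) a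
    rw [← hu, hua, hub] at this
    exact zero_ne_one this
  obtain ⟨a', ha'⟩ : ∃ i, half m (f.symm 1) i = 1 := by
    by_contra h
    push Not at h
    exact hnf (flat_iff.2 fun i => (z2 _).resolve_right (h i))
  have hma' : m a' ≠ a' := fun h => by
    rw [half, h, z2_add] at ha'; exact zero_ne_one ha'
  -- flat vectors vanishing at the pair stay flat
  have hflat : ∀ r : Vec ι, Flat m r → r a = 0 → L m r = 0 → half m (f.symm r) a' = 0 := by
    intro r hr hra hL
    have hne : ∀ i, r i = 1 → i ≠ a ∧ i ≠ m a := fun i hi =>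
      ⟨fun h => by rw [h, hra] at hi; exact zero_ne_one hi,
        fun h => by rw [h, hr, hra] at hi; exact zero_ne_one hi⟩
    refine flat_iff.1 (F.sum_centres hf r hr hL ?_ ?_).1 a'
    · intro i hi _
      have h1 := hne i hi
      have h2 := hne (m i) (by rw [hr, hi])
      exact hconst i (m i) h1.1 h1.2 h2.1 h2.2
    · intro i j hi hj _ _
      exact hconst i j (hne i hi).1 (hne i hi).2 (hne j hj).1 (hne j hj).2
  have φadd : ∀ x y, half m (f.symm (x + y)) a' = half m (f.symm x) a' + half m (f.symm y) a' :=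
    fun x y => by rw [map_add, half_add]
  have φea : half m (f.symm (e a)) a' = 0 := by
    have hr : Flat m (u + e a) ∧ (u + e a) a = 0 ∧ L m (u + e a) = 0 := by
      refine ⟨fun i => ?_, by rw [Pi.add_apply, hua, e_same, z2_add], F.L_const fun i j hi hj => ?_⟩
      · rcases eq_or_ne i a with rfl | h1
        · rw [Pi.add_apply, Pi.add_apply, hub, hua, e_same, e_ne ha]; decide
        rcases eq_or_ne i (m a) with rfl | h2
        · rw [F.inv, Pi.add_apply, Pi.add_apply, hub, hua, e_same, e_ne ha]; decide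
        have h3 : m i ≠ a := fun h => h2 (by rw [← h, F.inv])
        have h4 : m i ≠ m a := fun h => h1 (m.injective h)
        rw [Pi.add_apply, Pi.add_apply, e_ne h1, e_ne h3, hconst (m i) i h3 h4 h1 h2]
      · have h1 : i ≠ a := fun h => ha (h ▸ hi)
        have h2 : j ≠ a := fun h => ha (h ▸ hj)
        have h3 : i ≠ m a := fun h => by rw [h, F.inv] at hi; exact ha hi.symm
        have h4 : j ≠ m a := fun h => by rw [h, F.inv] at hj; exact ha hj.symm
        rw [Pi.add_apply, Pi.add_apply, e_ne h1, e_ne h2, hconst i j h1 h3 h2 h4]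
    have h := hflat _ hr.1 hr.2.1 hr.2.2
    rwa [φadd, hu, AddEquiv.symm_apply_apply, half_one, zero_add] at h
  set fa : Vec ι := e a + e (m a) with hfa
  have faflat : Flat m fa ∧ L m fa = 0 := centre_flat ha.symm (comm_swap_pair F.inv a)
  have φfa : half m (f.symm fa) a' = 1 := by
    have h := hflat (1 + fa) ((flat_one m).add faflat.1)
      (by rw [Pi.add_apply, hfa, Pi.add_apply, e_same, e_ne ha.symm, Pi.one_apply]; decide)
      (by rw [L_add, F.L_one, faflat.2, add_zero])
    rw [φadd, ha'] at h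
    exact (z2 _).resolve_left fun h0 => by rw [h0] at h; exact absurd h (by decide)
  set c : Vec ι := f (e a' + e (m a')) with hc
  set g0 := (f.symm.trans (pa (swap a' (m a')))).trans f with hg0
  have hg0R : g0 ∈ F.R := F.trans (F.trans (F.symm hf) (F.perm _ (comm_swap_pair F.inv a'))) hf
  have hg0v0 : ∀ x, half m (f.symm x) a' = 0 → g0 x = x := by
    intro x hx
    show f (pa _ (f.symm x)) = x
    rw [pa_swap_eq (z2_eq _ _ hx), AddEquiv.apply_symm_apply]
  have hg0v1 : ∀ x, half m (f.symm x) a' = 1 → g0 x = x + c := by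
    intro x hx
    show f (pa _ (f.symm x)) = x + c
    rw [pa_swap_ne, map_add, AddEquiv.apply_symm_apply]
    intro h
    rw [half, h, z2_add] at hx
    exact zero_ne_one hx
  have hcinv : ∀ i j, i ≠ j → Comm m (swap i j) → i ≠ a → i ≠ m a → j ≠ a → j ≠ m a → c i = c j := by
    intro i j hij hcm h1 h2 h3 h4
    obtain ⟨k, l, hkl, hck, -, hconj⟩ := F.centre hf hij hcm (hconst i j h1 h2 h3 h4)
    have ht : f.symm (1 : Vec ι) k = f.symm (1 : Vec ι) l := by
      have := congrFun (hconj (f.symm 1)) k
      rwa [AddEquiv.apply_symm_apply, pa_one, pa_apply, symm_swap, swap_apply_left] at this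
    have hka : a' ≠ k ∧ a' ≠ l := by
      constructor <;> rintro rfl <;> rcases pair_map hkl hck with ⟨p, q⟩ | ⟨p, q⟩
      · exact hma' p
      · rw [half, p, ht, z2_add] at ha'; exact zero_ne_one ha'
      · exact hma' q
      · rw [half, q, ht, z2_add] at ha'; exact zero_ne_one ha'
    have hka2 : m a' ≠ k ∧ m a' ≠ l := by
      rcases pair_map hkl hck with ⟨p, q⟩ | ⟨p, q⟩
      · exact ⟨fun h => hka.1 (m.injective (h.trans p.symm)), fun h => hka.2 (m.injective (h.trans q.symm))⟩
      · exact ⟨fun h => hka.2 (m.injective (h.trans q.symm)), fun h => hka.1 (m.injective (h.trans p.symm))⟩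
    have h5 := hconj (e a' + e (m a'))
    rw [map_add (pa (swap k l)), pa_e, pa_e, swap_apply_of_ne_of_ne hka.1 hka.2,
      swap_apply_of_ne_of_ne hka2.1 hka2.2, ← hc, AddEquiv.symm_apply_eq, ← hc] at h5
    have := congrFun h5 i
    rwa [pa_apply, symm_swap, swap_apply_left, eq_comm] at this
  have hcoff : ∀ i, i ≠ a → i ≠ m a → half m c i = 0 := by
    intro i h1 h2
    rcases eq_or_ne (m i) i with hi | hi
    · rw [half, hi, z2_add]
    have h3 : m i ≠ a := fun h => h2 (by rw [← h, F.inv])
    have h4 : m i ≠ m a := fun h => h1 (m.injective h)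
    rw [half, hcinv i (m i) hi.symm (comm_swap_pair F.inv i) h1 h2 h3 h4, z2_add]
  have hcL : L m c = 0 := F.L_const fun i j hi hj => by
    rcases eq_or_ne i j with rfl | hij
    · rfl
    refine hcinv i j hij (comm_swap_fixed hi hj) ?_ ?_ ?_ ?_
    · exact fun h => ha (h ▸ hi)
    · exact fun h => by rw [h, F.inv] at hi; exact ha hi.symm
    · exact fun h => ha (h ▸ hj)
    · exact fun h => by rw [h, F.inv] at hj; exact ha hj.symm
  have hca : half m c a = 1 := by
    refine (z2 _).resolve_left fun h0 => ?_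
    have hcflat : Flat m c := flat_iff.2 fun i => by
      rcases eq_or_ne i a with rfl | h1
      · exact h0
      rcases eq_or_ne i (m a) with rfl | h2
      · rwa [half_m F.inv]
      exact hcoff i h1 h2
    have hom : F.Om (1 + c) := ⟨g0, hg0R, hg0v1 1 ha'⟩
    by_cases hne : (1 : Vec ι) + c = 1
    · rw [add_eq_left, hc, map_eq_zero_iff _ f.injective] at hne
      have := congrFun hne a'
      simp [e_same, e_ne hma'.symm] at this
    · have := hodd _ hom ((flat_one m).add hcflat) hne
      rw [L_add, F.L_one, hcL] at this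
      exact absurd this (by decide)
  have hg0L : ∀ x, L m (g0 x) = L m x := by
    intro x
    rcases z2 (half m (f.symm x) a') with h | h
    · rw [hg0v0 x h]
    · rw [hg0v1 x h, L_add, hcL, add_zero]
  rcases z2 (half m (f.symm v) a') with h | h
  · refine ⟨((pa (swap a (m a))).trans g0).trans (pa (swap a (m a))),
      F.trans (F.trans (F.perm _ (comm_swap_pair F.inv a)) hg0R) (F.perm _ (comm_swap_pair F.inv a)),
      fun x => ?_, ?_⟩
    · show L m (pa _ (g0 (pa _ x))) = L m x
      rw [L_pa (comm_swap_pair F.inv a), hg0L, L_pa (comm_swap_pair F.inv a)]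
    have hva : v a ≠ v (m a) := fun h' => by rw [half, h', z2_add] at hv; exact zero_ne_one hv
    have hhz : half m (v + fa + c) a = 0 := by
      rw [half_add, half_add, hv, flat_iff.1 faflat.1 a, hca]; decide
    have hres : ((pa (swap a (m a))).trans g0).trans (pa (swap a (m a))) v = v + fa + c := by
      show pa _ (g0 (pa _ v)) = _
      rw [pa_swap_ne hva, hg0v1 (v + fa) (by rw [φadd, h, φfa]; decide),
        pa_swap_eq (z2_eq _ _ hhz)]
    rw [hres]
    refine ⟨hhz, fun i h1 h2 => ?_⟩
    rw [half_add, half_add, flat_iff.1 faflat.1 i, hcoff i h1 h2, add_zero, add_zero]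
  · refine ⟨g0, hg0R, hg0L, ?_, fun i h1 h2 => ?_⟩
    · rw [hg0v1 v h, half_add, hv, hca]; decide
    · rw [hg0v1 v h, half_add, hcoff i h1 h2, add_zero]

theorem flatten (hodd : F.OddW) (hexu : F.Exu) (v : Vec ι) :
    ∃ g ∈ F.R, (∀ x, L m (g x) = L m x) ∧ Flat m (g v) := by
  induction hn : (Finset.univ.filter fun i => half m v i ≠ 0).card using Nat.strong_induction_on
    generalizing v with
  | _ n ih =>
    by_cases hfl : Flat m v
    · exact ⟨pa 1, F.perm 1 (fun _ => rfl), fun x => rfl, hfl⟩
    obtain ⟨a, hva⟩ : ∃ a, half m v a = 1 := by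
      by_contra h
      push Not at h
      exact hfl (flat_iff.2 fun i => (z2 _).resolve_right (h i))
    have ha : m a ≠ a := fun h => by rw [half, h, z2_add] at hva; exact zero_ne_one hva
    obtain ⟨u, hu, hua, hconst⟩ := hexu a ha
    obtain ⟨g, hg, hgL, hg0, hgi⟩ : ∃ g ∈ F.R, (∀ x, L m (g x) = L m x) ∧ half m (g v) a = 0 ∧
        ∀ i, i ≠ a → i ≠ m a → half m (g v) i = half m v i := by
      rcases z2 (u a) with h | h
      · have h' : u (m a) = 1 := (z2 _).resolve_left fun h' => hua (h.trans h'.symm)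
        obtain ⟨g, hg, hgL, hg0, hgi⟩ := F.flat_step hodd (a := m a) (by rw [F.inv]; exact ha.symm)
          hu h' (by rw [F.inv]; exact h)
          (fun i j h1 h2 h3 h4 => by rw [F.inv] at h2 h4; exact hconst i j h2 h1 h4 h3)
          (v := v) (by rwa [half_m F.inv])
        refine ⟨g, hg, hgL, by rwa [half_m F.inv] at hg0, fun i h1 h2 => hgi i h2 ?_⟩
        rwa [F.inv]
      · exact F.flat_step hodd ha hu h ((z2 _).resolve_right fun h' => hua (h.trans h'.symm)) hconst hva
    have hlt : (Finset.univ.filter fun i => half m (g v) i ≠ 0).card < n := by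
      rw [← hn]
      refine Finset.card_lt_card ((Finset.ssubset_iff_of_subset ?_).2 ⟨a, by simp [hva], by simp [hg0]⟩)
      intro i hi
      simp only [Finset.mem_filter, Finset.mem_univ, true_and] at hi ⊢
      rwa [← hgi i (fun h => hi (h ▸ hg0)) (fun h => hi (by rw [h, half_m F.inv]; exact hg0))]
    obtain ⟨g', hg', hL', hfl'⟩ := ih _ hlt (g v) rfl
    exact ⟨g.trans g', F.trans hg hg', fun x => (hL' _).trans (hgL x), hfl'⟩

end Frame

end Cfsg.Lib.AltTop
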