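import Cfsg.Agent.AltTopType.Fusion
import Cfsg.Agent.AltTopType.FrameFlatten
import Cfsg.Agent.AltTopType.FrameCount

/-! The automiser of a maximal elementary abelian subgroup as a linear frame. -/

set_option autoImplicit false
set_option linter.unusedSectionVars false
set_option linter.unusedSimpArgs false
set_option linter.style.haveILetI false

namespace Cfsg.Lib.AltTop

open Equiv Subgroup

variable {G : Type*} [Group G] [Finite G] {t : G} {ι : Type*} [Fintype ι] [DecidableEq ι]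

/-- Conjugates of `t`. -/
def IsT (t z : G) : Prop := ∃ g, g * t * g⁻¹ = z

theorem IsT.sq (ht : t * t = 1) {z : G} (h : IsT t z) : z * z = 1 := by
  obtain ⟨g, rfl⟩ := h
  rw [show g * t * g⁻¹ * (g * t * g⁻¹) = g * (t * t) * g⁻¹ by group, ht, mul_one, mul_inv_cancel]

theorem IsT.conj {z : G} (h : IsT t z) (c : G) : IsT t (c * z * c⁻¹) := by
  obtain ⟨g, rfl⟩ := h
  exact ⟨c * g, by group⟩

namespace Setting

variable (S : Setting t ι)
include S

theorem coord_conj_add {m : Perm ι} (hm : ∀ i, m (m i) = i) {E : Subgroup G}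
    (hA : ∀ a ∈ E, S.Adm m a) {g : G} (hg : MapsIn g E E) {a b : G} (ha : a ∈ E) (hb : b ∈ E) :
    S.coord m (g * (a * b) * g⁻¹) = S.coord m (g * a * g⁻¹) + S.coord m (g * b * g⁻¹) := by
  rw [← S.coord_mul hm (hA _ (hg a ha)) (hA _ (hg b hb))]
  congr 1
  group

/-- The automiser in coordinates. -/
theorem exists_real {m : Perm ι} (hm : ∀ i, m (m i) = i) {E : Subgroup G} (hE : Big t ι E)
    (hA : ∀ a ∈ E, S.Adm m a) {g : G} (hg : MapsIn g E E) :
    ∃ f : Vec ι ≃+ Vec ι, ∀ a ∈ E, S.coord m (g * a * g⁻¹) = f (S.coord m a) := by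
  choose sec hsec hsecx using fun x => S.coord_surj hE hm hA x
  have hback : ∀ a ∈ E, sec (S.coord m a) = a := fun a ha =>
    S.coord_inj hE.toElem hm hA (hsec _) ha (hsecx _)
  have hg' := hg.inv le_rfl
  refine ⟨{ toFun := fun x => S.coord m (g * sec x * g⁻¹)
            invFun := fun x => S.coord m (g⁻¹ * sec x * g⁻¹⁻¹)
            left_inv := fun x => ?_
            right_inv := fun x => ?_
            map_add' := fun x y => ?_ }, fun a ha => ?_⟩
  · simp only [hback _ (hg _ (hsec x))]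
    rw [show g⁻¹ * (g * sec x * g⁻¹) * g⁻¹⁻¹ = sec x by group, hsecx]
  · simp only [hback _ (hg' _ (hsec x))]
    rw [show g * (g⁻¹ * sec x * g⁻¹⁻¹) * g⁻¹ = sec x by group, hsecx]
  · have e : sec (x + y) = sec x * sec y := by
      rw [← hback _ (mul_mem (hsec x) (hsec y)), S.coord_mul hm (hA _ (hsec x)) (hA _ (hsec y)),
        hsecx, hsecx]
    simp only [e]
    exact S.coord_conj_add hm hA hg (hsec x) (hsec y)
  · show _ = S.coord m (g * sec (S.coord m a) * g⁻¹)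
    rw [hback a ha]

theorem π_coord_e {m : Perm ι} (hm : ∀ i, m (m i) = i) {a : G} (ha : S.Adm m a) {i : ι} (hi : m i ≠ i)
    (h : ∀ x, S.coord m a x + S.coord m a (m x) = if x = i ∨ x = m i then 1 else 0) :
    S.π a = swap i (m i) := by
  refine Equiv.ext fun x => ?_
  have hh := (S.half_coord hm ha x).symm.trans (h x)
  rcases eq_or_ne x i with rfl | h1
  · rw [swap_apply_left]
    refine (ha.2.1 x).resolve_left fun k => ?_
    rw [if_pos k, if_pos (Or.inl rfl)] at hh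
    exact zero_ne_one hh
  rcases eq_or_ne x (m i) with rfl | h2
  · rw [swap_apply_right]
    have := (ha.2.1 (m i)).resolve_left fun k => by
      rw [if_pos k, if_pos (Or.inr rfl)] at hh
      exact zero_ne_one hh
    rwa [hm] at this
  rw [swap_apply_of_ne_of_ne h1 h2]
  by_contra k
  rw [if_neg k, if_neg (not_or.2 ⟨h1, h2⟩)] at hh
  exact one_ne_zero hh

theorem L_coord {m : Perm ι} {a : G} (ha : S.Adm m a) : L m (S.coord m a) = L m (S.v a) := by
  refine Finset.sum_congr rfl fun i hi => ?_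
  simp only [Finset.mem_filter, Finset.mem_univ, true_and] at hi
  have h : S.π a i = i := (ha.2.1 i).elim id (fun h => h.trans hi)
  simp [coord, h]

end Setting

namespace Syl

variable {S : Setting t ι} (Y : Syl S)
include Y

/-- The frame of a maximal elementary abelian subgroup. -/
def frame (ht : t * t = 1) {E : Subgroup G} (hE : Big t ι E) {m : Perm ι} (hm : ∀ i, m (m i) = i)
    (hA : ∀ a ∈ E, S.Adm m a) : Frame m where
  inv := hm
  even := S.ev
  R := {f | ∃ g, MapsIn g E E ∧ ∀ a ∈ E, S.coord m (g * a * g⁻¹) = f (S.coord m a)}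
  trans := by
    rintro f f' ⟨g, hg, hgf⟩ ⟨g', hg', hgf'⟩
    refine ⟨g' * g, hg.comp hg', fun a ha => ?_⟩
    rw [show g' * g * a * (g' * g)⁻¹ = g' * (g * a * g⁻¹) * g'⁻¹ by group, hgf' _ (hg a ha), hgf a ha]
    rfl
  symm := by
    rintro f ⟨g, hg, hgf⟩
    refine ⟨g⁻¹, hg.inv le_rfl, fun a ha => ?_⟩
    apply f.injective
    rw [← hgf _ (hg.inv le_rfl a ha), show g * (g⁻¹ * a * g⁻¹⁻¹) * g⁻¹ = a by group,
      AddEquiv.apply_symm_apply]
  perm := fun σ hσ => by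
    obtain ⟨g, -, h1, h2⟩ := S.exists_perm_norm hE hm hA hσ
    exact ⟨g, h1, h2⟩
  fixOne := by
    rintro f ⟨g, hg, hgf⟩ hf1
    have htE := S.t_mem_big hE hm hA ht
    have h := hgf t htE
    rw [S.coord_t, hf1] at h
    have hgt := S.coord_inj hE.toElem hm hA (hg t htE) htE (h.trans (S.coord_t m).symm)
    have hgC : g ∈ centralizer ({t} : Set G) := mem_centralizer_singleton_iff.2 (by
      calc g * t = (g * t * g⁻¹) * g := by group
        _ = t * g := by rw [hgt])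
    obtain ⟨σ, hσ, -, hconj⟩ := S.conj_coord hm hgC (S.comm_of_norm hE hm hA hgC hg)
    refine ⟨σ, hσ, fun x => ?_⟩
    obtain ⟨a, ha, rfl⟩ := S.coord_surj hE hm hA x
    rw [← hgf a ha, (hconj a (hA a ha)).2]
  stab := by
    rintro f ⟨g, hg, hgf⟩ hflat v hv
    have htE := S.t_mem_big hE hm hA ht
    obtain ⟨a, ha, rfl⟩ := S.coord_surj hE hm hA v
    have hg' := hg.inv le_rfl t htE
    rw [inv_inv] at hg'
    have h1 : S.coord m (g⁻¹ * t * g) = f.symm 1 := by
      apply f.injective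
      rw [AddEquiv.apply_symm_apply, ← hgf _ hg', show g * (g⁻¹ * t * g) * g⁻¹ = t by group, S.coord_t]
    rw [← hgf a ha, ← S.π_eq_one_iff hm (hA _ (hg a ha))]
    exact Y.stab hE hg htE ((S.π_eq_one_iff hm (hA _ hg')).2 (h1 ▸ hflat)) ha
      ((S.π_eq_one_iff hm (hA a ha)).2 hv)

variable (ht : t * t = 1) {E : Subgroup G} (hE : Big t ι E) {m : Perm ι} (hm : ∀ i, m (m i) = i)
  (hA : ∀ a ∈ E, S.Adm m a)

theorem om_iff {x : Vec ι} : (Y.frame ht hE hm hA).Om x ↔ ∃ a ∈ E, IsT t a ∧ S.coord m a = x := by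
  have htE := S.t_mem_big hE hm hA ht
  constructor
  · rintro ⟨f, ⟨g, hg, hgf⟩, rfl⟩
    exact ⟨g * t * g⁻¹, hg t htE, ⟨g, rfl⟩, by rw [hgf t htE, S.coord_t]⟩
  · rintro ⟨_, ha, ⟨g, rfl⟩, rfl⟩
    obtain ⟨h, hh, hht⟩ := Y.exists_norm hE ha
    obtain ⟨f, hf⟩ := S.exists_real hm hE hA hh
    exact ⟨f, ⟨h, hh, hf⟩, by rw [← S.coord_t m, ← hf t htE, hht]⟩

/-- A flip is conjugate in the centraliser into `J`. -/
theorem flip_toJ {a : G} (ha : a ∈ centralizer ({t} : Set G)) (ha2 : a * a = 1) (hπ : S.π a = 1) :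
    ∃ c ∈ centralizer ({t} : Set G), c * a * c⁻¹ ∈ Y.J ∧
      S.v (c * a * c⁻¹) = pa (S.π c) (S.v a) := by
  obtain ⟨c, hc, hmap⟩ := S.two_le_conj Y.le (R := zpowers a) (by
    obtain ⟨k, -, hk⟩ := (Nat.dvd_prime_pow Nat.prime_two).1
      (orderOf_dvd_of_pow_eq_one (show a ^ 2 ^ 1 = 1 by simpa [pow_two] using ha2))
    exact IsPGroup.of_card (n := k) (by rw [Nat.card_zpowers, hk])) (zpowers_le.2 ha)
  refine ⟨c, hc, Y.mem_J.2 ⟨hmap a (mem_zpowers a), ?_⟩, ?_⟩
  · rw [S.π_conj hc ha, hπ, mul_one, mul_inv_cancel]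
  · rw [S.v_conj hc ha, hπ, mul_one, mul_inv_cancel]
    show S.v c + pa (S.π c) (S.v a) + S.v c = pa (S.π c) (S.v a)
    rw [add_comm (S.v c), add_assoc, vec_self, add_zero]

theorem J_inv : ∀ i : ι, (1 : Perm ι) ((1 : Perm ι) i) = i := fun _ => rfl

include ht in
theorem flip_shape {a : G} (ha : a ∈ centralizer ({t} : Set G)) (haT : IsT t a) (hπ : S.π a = 1) :
    S.v a = 1 ∨ ∃ k, S.v a = e k ∨ S.v a = 1 + e k := by
  obtain ⟨c, hc, hJ, hv⟩ := Y.flip_toJ ha (haT.sq ht) hπ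
  let F := Y.frame ht Y.J_big Y.J_inv (fun _ h => Y.J_adm h)
  have hom : F.Om (pa (S.π c) (S.v a)) :=
    (Y.om_iff ht Y.J_big Y.J_inv _).2
      ⟨_, hJ, haT.conj c, by rw [S.coord_of_one (Y.mem_J.1 hJ).2, hv]⟩
  by_cases h1 : pa (S.π c) (S.v a) = 1
  · left; exact (pa (S.π c)).injective (h1.trans (pa_one _).symm)
  · obtain ⟨k, hk⟩ := F.exists_shape (fun _ => rfl) hom h1
    refine .inr ⟨(S.π c).symm k, hk.imp (fun h => ?_) (fun h => ?_)⟩ <;>
      apply (pa (S.π c)).injective <;> rw [h]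
    · rw [pa_e, apply_symm_apply]
    · rw [map_add, pa_one, pa_e, apply_symm_apply]

theorem frame_oddW : (Y.frame ht hE hm hA).OddW := by
  intro u hu hflat hu1
  obtain ⟨a, ha, haT, rfl⟩ := (Y.om_iff ht hE hm hA).1 hu
  have hπ := (S.π_eq_one_iff hm (hA a ha)).2 hflat
  rw [S.coord_of_one hπ] at hu1 ⊢
  rw [← (Y.frame ht hE hm hA).sum_flat (hA a ha).2.2]
  obtain ⟨k, hk | hk⟩ := (Y.flip_shape ht (hE.le ha) haT hπ).resolve_left hu1
  · rw [hk]; simp [e, Pi.single_apply]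
  · rw [hk]
    obtain ⟨j, hj⟩ := S.ev
    simp [Finset.sum_add_distrib, e, Pi.single_apply, hj, z2_add]

/-- If some conjugate of `t` swaps exactly one pair and is constant off it, every frame has such members. -/
theorem frame_exu {b : G} (hb : b ∈ centralizer ({t} : Set G)) (hbT : IsT t b) {a₀ b₀ : ι} (hne : a₀ ≠ b₀)
    (hbπ : S.π b = swap a₀ b₀) (hbv : ∀ i j, i ≠ a₀ → i ≠ b₀ → j ≠ a₀ → j ≠ b₀ → S.v b i = S.v b j)
    {E : Subgroup G} (hE : Big t ι E) (hA : ∀ a ∈ E, S.Adm m a) :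
    (Y.frame ht hE hm hA).Exu := by
  classical
  intro a ha
  obtain ⟨σ, hσa, hσb⟩ : ∃ σ : Perm ι, σ a₀ = a ∧ σ b₀ = m a := by
    refine ⟨swap (swap a₀ a b₀) (m a) * swap a₀ a, ?_, ?_⟩
    · rw [Perm.mul_apply, swap_apply_left, swap_apply_of_ne_of_ne]
      · intro h
        exact hne ((swap a₀ a).injective ((swap_apply_left a₀ a).trans h))
      · exact Ne.symm ha
    · rw [Perm.mul_apply, swap_apply_left]
  let tgt : Vec ι := fun x => if x = a then 1 else if x = m a then 0 else S.v b (σ.symm x)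
  have hconst : ∀ i j, i ≠ a → i ≠ m a → j ≠ a → j ≠ m a → tgt i = tgt j := by
    intro i j h1 h2 h3 h4
    simp only [tgt, if_neg h1, if_neg h2, if_neg h3, if_neg h4]
    refine hbv _ _ ?_ ?_ ?_ ?_ <;> intro h <;> rw [symm_apply_eq] at h
    · exact h1 (h.trans hσa)
    · exact h2 (h.trans hσb)
    · exact h3 (h.trans hσa)
    · exact h4 (h.trans hσb)
  obtain ⟨x, hx, hxc⟩ := S.coord_surj hE hm hA tgt
  have hxπ : S.π x = swap a (m a) := by
    refine S.π_coord_e hm (hA x hx) ha fun y => ?_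
    rw [hxc]
    by_cases h1 : y = a
    · subst h1; simp [tgt, ha]
    by_cases h2 : y = m a
    · subst h2; simp [tgt, hm, ha]
    have h3 : m y ≠ a := fun h => h2 (by rw [← h, hm])
    have h4 : m y ≠ m a := fun h => h1 (m.injective h)
    rw [if_neg (not_or.2 ⟨h1, h2⟩), hconst (m y) y h3 h4 h1 h2, z2_add]
  have hxoff : ∀ y, y ≠ a → y ≠ m a → S.v x y = S.v b (σ.symm y) := by
    intro y h1 h2
    have := congrFun hxc y
    simpa [Setting.coord, hxπ, swap_apply_of_ne_of_ne h1 h2, tgt, h1, h2] using this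
  let u : Vec ι := fun y => if y = a then S.v x a + S.v b a₀ else 0
  obtain ⟨c, hc, hcv, hcπ⟩ := S.surj u σ
  have hba : S.v b b₀ = S.v b a₀ := by
    have := S.v_sq hb (hbT.sq ht) a₀
    rwa [hbπ, swap_apply_left] at this
  have hbsymm : σ.symm a = a₀ ∧ σ.symm (m a) = b₀ := ⟨by rw [symm_apply_eq, hσa], by rw [symm_apply_eq, hσb]⟩
  have hconj : σ * swap a₀ b₀ * σ⁻¹ = swap a (m a) := by
    refine Equiv.ext fun y => ?_
    obtain ⟨y, rfl⟩ := σ.surjective y
    rw [Perm.mul_apply, Perm.mul_apply, Perm.inv_def, symm_apply_apply, ← hσb, ← hσa, σ.injective.swap_apply]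
  have e1 : S.π (c * b * c⁻¹) = S.π x := by rw [S.π_conj hc hb, hcπ, hbπ, hxπ, hconj]
  have e2 : S.v (c * b * c⁻¹) = S.v x := by
    rw [S.v_conj hc hb, hcv, hcπ, hbπ, hconj]
    funext y
    rw [Pi.add_apply, Pi.add_apply, pa_apply, pa_apply, symm_swap]
    by_cases h1 : y = a
    · subst h1
      rw [hbsymm.1, swap_apply_left]
      simp only [u, if_true, if_neg ha, add_zero]
      rw [add_assoc, z2_add, add_zero]
    by_cases h2 : y = m a
    · subst h2
      rw [hbsymm.2, swap_apply_right, hba]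
      have hflat := (hA x hx).2.2 a
      simp only [u, if_neg ha, if_true, zero_add]
      rw [hflat, add_left_comm, z2_add, add_zero]
    rw [swap_apply_of_ne_of_ne h1 h2, hxoff y h1 h2]
    simp [u, h1]
  obtain ⟨d, -, hdx⟩ := S.conj_of_image (mul_mem (mul_mem hc hb) (inv_mem hc)) (hE.le hx)
    ((hbT.conj c).sq ht) (hE.sq x hx) e2 e1
  exact ⟨tgt, (Y.om_iff ht hE hm hA).2 ⟨x, hx, hdx ▸ (hbT.conj c).conj d, hxc⟩,
    by simp [tgt, ha], hconst⟩

include ht in
/-- Every element of a maximal elementary abelian subgroup can be moved to a flip, keeping the sums. -/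
theorem flatten_elem {b : G} (hb : b ∈ centralizer ({t} : Set G)) (hbT : IsT t b) {a₀ b₀ : ι} (hne : a₀ ≠ b₀)
    (hbπ : S.π b = swap a₀ b₀) (hbv : ∀ i j, i ≠ a₀ → i ≠ b₀ → j ≠ a₀ → j ≠ b₀ → S.v b i = S.v b j)
    {E : Subgroup G} (hE : Big t ι E) {a : G} (ha : a ∈ E) :
    ∃ g, MapsIn g E E ∧ S.π (g * a * g⁻¹) = 1 ∧
      ∀ x ∈ E, ∑ i, S.v (g * x * g⁻¹) i = ∑ i, S.v x i := by
  obtain ⟨m, hm, hA⟩ := S.exists_m hE
  let F := Y.frame ht hE hm hA
  obtain ⟨f, ⟨g, hg, hgf⟩, hL, hflat⟩ := F.flatten (Y.frame_oddW ht hE hm hA)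
    (Y.frame_exu ht hm hb hbT hne hbπ hbv hE hA) (S.coord m a)
  refine ⟨g, hg, (S.π_eq_one_iff hm (hA _ (hg a ha))).2 (hgf a ha ▸ hflat), fun x hx => ?_⟩
  rw [F.sum_flat (hA _ (hg x hx)).2.2, F.sum_flat (hA x hx).2.2, ← S.L_coord (hA _ (hg x hx)), hgf x hx,
    hL, S.L_coord (hA x hx)]

end Syl

end Cfsg.Lib.AltTop
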