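import Cfsg.Agent.AltTopType.Setting

/-! Permutation-module coordinates on the maximal elementary abelian subgroups. -/

set_option autoImplicit false
set_option linter.unusedSectionVars false
set_option linter.unusedSimpArgs false
set_option linter.style.haveILetI false

namespace Cfsg.Lib.AltTop

open Equiv Subgroup

variable {G : Type*} [Group G] [Finite G] {t : G} {ι : Type*} [Fintype ι] [DecidableEq ι]

/-- A maximal elementary abelian subgroup. -/
structure Big (t : G) (ι : Type*) [Fintype ι] (E : Subgroup G) : Prop extends Elem t E where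
  card : Nat.card E = 2 ^ Fintype.card ι

/-- Conjugation by `g` maps `E` into `E'`. -/
def MapsIn (g : G) (E E' : Subgroup G) : Prop := ∀ a ∈ E, g * a * g⁻¹ ∈ E'

theorem MapsIn.comp {g h : G} {E E' E'' : Subgroup G} (h1 : MapsIn g E E') (h2 : MapsIn h E' E'') :
    MapsIn (h * g) E E'' := fun a ha => by
  rw [show h * g * a * (h * g)⁻¹ = h * (g * a * g⁻¹) * h⁻¹ by group]
  exact h2 _ (h1 a ha)

theorem MapsIn.inv {g : G} {E E' : Subgroup G} (h : MapsIn g E E')
    (hc : Nat.card E' ≤ Nat.card E) : MapsIn g⁻¹ E' E := by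
  have hinj : Function.Injective (fun a : E => (⟨g * a * g⁻¹, h a a.2⟩ : E')) := fun a b hab => by
    simpa using congrArg Subtype.val hab
  have hbij := hinj.bijective_of_nat_card_le hc
  intro b hb
  obtain ⟨a, ha⟩ := hbij.2 ⟨b, hb⟩
  have ha' : g * (a : G) * g⁻¹ = b := congrArg Subtype.val ha
  rw [← ha', show g⁻¹ * (g * (a : G) * g⁻¹) * g⁻¹⁻¹ = a by group]
  exact a.2

/-- A labelling of the two points of every moved pair. -/
noncomputable def lab (m : Perm ι) (i : ι) : ZMod 2 :=
  if (Fintype.equivFin ι i : ℕ) < (Fintype.equivFin ι (m i) : ℕ) then 1 else 0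

theorem lab_m {m : Perm ι} (hm : ∀ i, m (m i) = i) {i : ι} (hi : m i ≠ i) :
    lab m (m i) = lab m i + 1 := by
  have hne : (Fintype.equivFin ι (m i) : ℕ) ≠ Fintype.equivFin ι i := fun h =>
    hi ((Fintype.equivFin ι).injective (Fin.ext h))
  rw [lab, lab, hm]
  rcases lt_or_gt_of_ne hne with h | h
  · rw [if_pos h, if_neg (by omega), zero_add]
  · rw [if_neg (by omega), if_pos h]; decide

namespace Setting

variable (S : Setting t ι)
include S

/-- The elements whose image lies in the elementary abelian group attached to `m`. -/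
def Adm (m : Perm ι) (a : G) : Prop :=
  a ∈ centralizer ({t} : Set G) ∧ (∀ i, S.π a i = i ∨ S.π a i = m i) ∧ Flat m (S.v a)

theorem adm_inv {m : Perm ι} (hm : ∀ i, m (m i) = i) {a : G} (ha : S.Adm m a) :
    ∀ i, S.π a (S.π a i) = i := by
  intro i
  rcases ha.2.1 i with h | h
  · rw [h, h]
  · rcases ha.2.1 (m i) with h' | h'
    · rw [← h] at h'
      exact (S.π a).injective (by rw [h', h'])
    · rw [h, h', hm]

theorem adm_pa {m : Perm ι} (hm : ∀ i, m (m i) = i) {a : G} (ha : S.Adm m a) {w : Vec ι}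
    (hw : Flat m w) : pa (S.π a) w = w := by
  funext i
  rw [pa_apply, show (S.π a).symm i = S.π a i by
    rw [symm_apply_eq, S.adm_inv hm ha]]
  rcases ha.2.1 i with h | h <;> rw [h]
  exact hw i

/-- The elements attached to `m`, as a subgroup. -/
def hull (m : Perm ι) (hm : ∀ i, m (m i) = i) : Subgroup G where
  carrier := {a | S.Adm m a}
  one_mem' := ⟨one_mem _, fun i => .inl (by rw [S.π_one, Perm.one_apply]), by
    rw [S.v_one]; exact flat_zero m⟩
  mul_mem' := by
    intro a b ha hb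
    refine ⟨mul_mem ha.1 hb.1, fun i => ?_, ?_⟩
    · rw [S.π_mul ha.1 hb.1, Perm.mul_apply]
      rcases hb.2.1 i with h | h <;> rw [h]
      · exact ha.2.1 i
      · rcases ha.2.1 (m i) with h' | h' <;> rw [h']
        · exact .inr rfl
        · exact .inl (hm i)
    · rw [S.v_mul ha.1 hb.1, S.adm_pa hm ha hb.2.2]
      exact ha.2.2.add hb.2.2
  inv_mem' := by
    intro a ha
    have hp : (S.π a)⁻¹ = S.π a := Equiv.ext fun i => by
      rw [Perm.inv_def, symm_apply_eq, S.adm_inv hm ha]
    refine ⟨inv_mem ha.1, fun i => ?_, ?_⟩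
    · rw [S.π_inv ha.1, hp]; exact ha.2.1 i
    · rw [S.v_inv ha.1, hp, S.adm_pa hm ha ha.2.2]; exact ha.2.2

theorem mem_hull {m : Perm ι} {hm : ∀ i, m (m i) = i} {a : G} : a ∈ S.hull m hm ↔ S.Adm m a :=
  Iff.rfl

/-- The coordinates. -/
noncomputable def coord (m : Perm ι) (a : G) : Vec ι :=
  S.v a + fun i => if S.π a i = i then 0 else lab m i

theorem half_coord {m : Perm ι} (hm : ∀ i, m (m i) = i) {a : G} (ha : S.Adm m a) (i : ι) :
    S.coord m a i + S.coord m a (m i) = if S.π a i = i then 0 else 1 := by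
  simp only [coord, Pi.add_apply]
  rw [ha.2.2 i, add_add_add_comm, z2_add, zero_add]
  by_cases h : S.π a i = i
  · have h' : S.π a (m i) = m i := by
      rcases ha.2.1 (m i) with h' | h'
      · exact h'
      · rw [hm] at h'
        exact ((S.π a).injective (h'.trans h.symm)).symm ▸ h
    rw [if_pos h, if_pos h', if_pos h, add_zero]
  · have hmi : m i ≠ i := fun h' => h ((ha.2.1 i).elim id (fun h'' => h''.trans h'))
    have hpi : S.π a i = m i := (ha.2.1 i).resolve_left h
    have h' : S.π a (m i) ≠ m i := fun h' => by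
      rw [← hpi, S.adm_inv hm ha] at h'; exact h h'.symm
    rw [if_neg h, if_neg h', if_neg h, lab_m hm hmi, ← add_assoc, z2_add, zero_add]

theorem π_eq_one_iff {m : Perm ι} (hm : ∀ i, m (m i) = i) {a : G} (ha : S.Adm m a) :
    S.π a = 1 ↔ Flat m (S.coord m a) := by
  constructor
  · intro h i
    have := S.half_coord hm ha i
    rw [h, Perm.one_apply, if_pos rfl] at this
    exact (z2_eq _ _ this).symm
  · intro h
    refine Equiv.ext fun i => ?_
    have := S.half_coord hm ha i
    rw [h i, z2_add] at this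
    by_contra h'
    rw [if_neg (by simpa using h')] at this
    exact zero_ne_one this

theorem coord_of_one {m : Perm ι} {a : G} (h : S.π a = 1) : S.coord m a = S.v a := by
  funext i
  simp [coord, h]

theorem coord_ext {m : Perm ι} (hm : ∀ i, m (m i) = i) {a b : G} (ha : S.Adm m a) (hb : S.Adm m b)
    (h : S.coord m a = S.coord m b) : S.v a = S.v b ∧ S.π a = S.π b := by
  have hiff : ∀ i, S.π a i = i ↔ S.π b i = i := by
    intro i
    have h1 := S.half_coord hm ha i
    have h2 := S.half_coord hm hb i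
    rw [h, h2] at h1
    by_cases p : S.π a i = i <;> by_cases q : S.π b i = i <;> simp_all
  refine ⟨funext fun i => ?_, Equiv.ext fun i => ?_⟩
  · have := congrFun h i
    simp only [coord, Pi.add_apply, hiff i] at this
    exact add_right_cancel this
  · by_cases p : S.π a i = i
    · rw [p, (hiff i).1 p]
    · rw [(ha.2.1 i).resolve_left p, (hb.2.1 i).resolve_left (fun q => p ((hiff i).2 q))]

theorem coord_mul {m : Perm ι} (hm : ∀ i, m (m i) = i) {a b : G} (ha : S.Adm m a) (hb : S.Adm m b) :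
    S.coord m (a * b) = S.coord m a + S.coord m b := by
  funext i
  simp only [coord, Pi.add_apply, S.v_mul ha.1 hb.1, S.adm_pa hm ha hb.2.2, S.π_mul ha.1 hb.1,
    Perm.mul_apply]
  have key : (if S.π a (S.π b i) = i then (0 : ZMod 2) else lab m i) =
      (if S.π a i = i then 0 else lab m i) + (if S.π b i = i then 0 else lab m i) := by
    by_cases q : S.π b i = i
    · rw [q, if_pos (c := i = i) rfl, add_zero]
    · rw [if_neg q, (hb.2.1 i).resolve_left q]
      by_cases p : S.π a i = i
      · rw [if_pos p, zero_add, if_neg]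
        intro h
        exact q (((hb.2.1 i).resolve_left q).trans ((S.π a).injective (h.trans p.symm)))
      · rw [if_neg p, z2_add, if_pos]
        rw [← (ha.2.1 i).resolve_left p, S.adm_inv hm ha]
  rw [key]
  abel

theorem coord_one (m : Perm ι) : S.coord m 1 = 0 := by
  rw [S.coord_of_one S.π_one, S.v_one]

theorem coord_t (m : Perm ι) : S.coord m t = 1 := by rw [S.coord_of_one S.π_t, S.v_t]

theorem adm_t (m : Perm ι) : S.Adm m t :=
  ⟨S.t_mem, fun i => .inl (by rw [S.π_t, Perm.one_apply]), by rw [S.v_t]; exact flat_one m⟩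

theorem exists_adm {m : Perm ι} (hm : ∀ i, m (m i) = i) (x : Vec ι) :
    ∃ a, S.Adm m a ∧ S.coord m a = x := by
  classical
  let p : ι → ι := fun i => if x i = x (m i) then i else m i
  have hp : Function.Involutive p := by
    intro i
    by_cases h : x i = x (m i)
    · simp [p, h]
    · have h' : ¬ x (m i) = x i := fun e => h e.symm
      simp [p, h, h', hm]
  let w : Vec ι := fun i => x i + if p i = i then 0 else lab m i
  have hpi : ∀ i, p i = i ↔ x i = x (m i) := by
    intro i
    by_cases h : x i = x (m i)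
    · simp [p, h]
    · have hne : m i ≠ i := fun e => h (by rw [e])
      simp [p, h, hne]
  have hw : Flat m w := by
    intro i
    simp only [w, hpi, hm]
    by_cases h : x i = x (m i)
    · rw [if_pos h, if_pos h.symm, h]
    · have hne : m i ≠ i := fun e => h (by rw [e])
      rw [if_neg h, if_neg (fun e => h e.symm), lab_m hm hne]
      revert h
      generalize x i = a; generalize x (m i) = b; generalize lab m i = c
      revert a b c; decide
  obtain ⟨a, ha, hva, hπa⟩ := S.surj w hp.toPerm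
  have hadm : S.Adm m a := ⟨ha, fun i => by
    rw [hπa]; by_cases h : x i = x (m i) <;> simp [p, h], hva ▸ hw⟩
  refine ⟨a, hadm, funext fun i => ?_⟩
  simp only [coord, Pi.add_apply, hva, hπa, Function.Involutive.coe_toPerm, w]
  rw [add_assoc, z2_add, add_zero]

theorem coord_inj {E : Subgroup G} (hE : Elem t E) {m : Perm ι} (hm : ∀ i, m (m i) = i)
    (hA : ∀ a ∈ E, S.Adm m a) {a b : G} (ha : a ∈ E) (hb : b ∈ E)
    (h : S.coord m a = S.coord m b) : a = b :=
  S.elem_inj hE ha hb (S.coord_ext hm (hA a ha) (hA b hb) h).1 (S.coord_ext hm (hA a ha) (hA b hb) h).2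

theorem coord_surj {E : Subgroup G} (hE : Big t ι E) {m : Perm ι} (hm : ∀ i, m (m i) = i)
    (hA : ∀ a ∈ E, S.Adm m a) (x : Vec ι) : ∃ a ∈ E, S.coord m a = x := by
  have hinj : Function.Injective (fun a : E => S.coord m (a : G)) := fun a b h =>
    Subtype.ext (S.coord_inj hE.toElem hm hA a.2 b.2 h)
  obtain ⟨a, ha⟩ := (hinj.bijective_of_nat_card_le
    (by rw [hE.card]; simp [Nat.card_eq_fintype_card])).2 x
  exact ⟨a, a.2, ha⟩

theorem t_mem_big {E : Subgroup G} (hE : Big t ι E) {m : Perm ι} (hm : ∀ i, m (m i) = i)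
    (hA : ∀ a ∈ E, S.Adm m a) (ht : t * t = 1) : t ∈ E := by
  obtain ⟨a, ha, hx⟩ := S.coord_surj hE hm hA 1
  obtain ⟨h1, h2⟩ := S.coord_ext hm (hA a ha) (S.adm_t m) (hx.trans (S.coord_t m).symm)
  obtain ⟨c, hc, hct⟩ := S.conj_of_image (hE.le ha) S.t_mem (hE.sq a ha) ht h1 h2
  have : a = t := by
    calc a = c⁻¹ * (c * a * c⁻¹) * c := by group
      _ = c⁻¹ * (t * c) := by rw [hct, mul_assoc]
      _ = c⁻¹ * (c * t) := by rw [mem_centralizer_singleton_iff.1 hc]
      _ = t := by rw [← mul_assoc, inv_mul_cancel, one_mul]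
  exact this ▸ ha

/-- Every maximal elementary abelian subgroup is attached to an involutive permutation. -/
theorem exists_m {E : Subgroup G} (hE : Big t ι E) :
    ∃ m : Perm ι, (∀ i, m (m i) = i) ∧ ∀ a ∈ E, S.Adm m a := by
  classical
  have hbd := (S.elem_bound hE.toElem).2 hE.card
  let f : ι → ι := fun i => if h : ∃ a, a ∈ E ∧ S.π a i ≠ i then S.π h.choose i else i
  have hf : ∀ a ∈ E, ∀ i, S.π a i = i ∨ S.π a i = f i := by
    intro a ha i
    rcases eq_or_ne (S.π a i) i with h | h
    · exact .inl h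
    · refine .inr ?_
      have hx : ∃ a, a ∈ E ∧ S.π a i ≠ i := ⟨a, ha, h⟩
      simp only [f, dif_pos hx]
      exact hbd a ha _ hx.choose_spec.1 i h hx.choose_spec.2
  have hinv : Function.Involutive f := by
    intro i
    by_cases hx : ∃ a, a ∈ E ∧ S.π a i ≠ i
    · obtain ⟨a, ha, hai⟩ := hx
      have h1 : S.π a i = f i := (hf a ha i).resolve_left hai
      have h2 := S.π_sq (hE.le ha) (hE.sq a ha) i
      rw [h1] at h2
      rcases hf a ha (f i) with h3 | h3
      · rw [h2] at h3
        exact absurd (h1.trans h3.symm) hai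
      · rw [← h3, h2]
    · simp only [f, dif_neg hx]
  refine ⟨hinv.toPerm, hinv, fun a ha => ⟨hE.le ha, hf a ha, fun i => ?_⟩⟩
  show S.v a (f i) = S.v a i
  rcases hf a ha i with h | h
  · by_cases hx : ∃ b, b ∈ E ∧ S.π b i ≠ i
    · obtain ⟨b, hb, hbi⟩ := hx
      have h1 := congrFun (S.v_mul (hE.le ha) (hE.le hb)) (S.π b i)
      rw [hE.comm ha hb, S.v_mul (hE.le hb) (hE.le ha), Pi.add_apply, Pi.add_apply, pa_apply,
        pa_apply, symm_apply_apply] at h1
      have hcomm : S.π a (S.π b i) = S.π b i := by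
        rw [← Perm.mul_apply, ← S.π_mul (hE.le ha) (hE.le hb), hE.comm ha hb,
          S.π_mul (hE.le hb) (hE.le ha), Perm.mul_apply, h]
      have : (S.π a).symm (S.π b i) = S.π b i := by rw [symm_apply_eq, hcomm]
      rw [this, add_comm] at h1
      have h3 : f i = S.π b i := ((hf b hb i).resolve_left hbi).symm
      rw [h3]
      exact (add_right_cancel h1).symm
    · simp only [f, dif_neg hx]
  · rw [← h]; exact S.v_sq (hE.le ha) (hE.sq a ha) i

theorem exists_big {m : Perm ι} (hm : ∀ i, m (m i) = i) {y : G} (hy : S.Adm m y) (hy2 : y * y = 1) :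
    ∃ E, Big t ι E ∧ (∀ a ∈ E, S.Adm m a) ∧ y ∈ E := by
  classical
  haveI : Fact (Nat.Prime 2) := ⟨Nat.prime_two⟩
  let H := S.hull m hm
  have hp : IsPGroup 2 (zpowers (⟨y, hy⟩ : H)) := by
    have hd : orderOf (⟨y, hy⟩ : H) ∣ 2 ^ 1 :=
      orderOf_dvd_of_pow_eq_one (Subtype.ext (by simpa [pow_two] using hy2))
    obtain ⟨k, -, hk⟩ := (Nat.dvd_prime_pow Nat.prime_two).1 hd
    exact IsPGroup.of_card (n := k) (by rw [Nat.card_zpowers, hk])
  obtain ⟨P, hP⟩ := hp.exists_le_sylow
  let E : Subgroup G := (P : Subgroup H).map H.subtype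
  have hA : ∀ a ∈ E, S.Adm m a := by
    rintro _ ⟨a, -, rfl⟩; exact a.2
  have hEp : IsPGroup 2 E := P.2.map _
  have hEC : E ≤ centralizer ({t} : Set G) := fun a ha => (hA a ha).1
  have hsq : ∀ a ∈ E, a * a = 1 := fun a ha => by
    have h0 : S.coord m (a * a) = S.coord m 1 := by
      rw [S.coord_mul hm (hA a ha) (hA a ha), vec_self, S.coord_one]
    obtain ⟨h1, h2⟩ := S.coord_ext hm (hA _ (mul_mem ha ha)) (hA 1 (one_mem _)) h0
    exact S.inj_two hEp hEC (mul_mem ha ha) (one_mem _) h1 h2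
  have hcardE : Nat.card E = Nat.card (P : Subgroup H) :=
    (Nat.card_congr ((P : Subgroup H).equivMapOfInjective H.subtype H.subtype_injective).toEquiv).symm
  have hle : Nat.card E ≤ 2 ^ Fintype.card ι := (S.elem_bound ⟨hEC, hsq⟩).1
  let ψ : H →* Multiplicative (Vec ι) :=
    { toFun := fun a => Multiplicative.ofAdd (S.coord m (a : G))
      map_one' := by simp [S.coord_one]
      map_mul' := fun a b => by simp [S.coord_mul hm a.2 b.2, ofAdd_add] }
  have hsurj : Function.Surjective ψ := fun x => by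
    obtain ⟨a, ha, hax⟩ := S.exists_adm hm (Multiplicative.toAdd x)
    exact ⟨⟨a, ha⟩, by simp [ψ, hax]⟩
  have hdvd : 2 ^ Fintype.card ι ∣ Nat.card H := by
    have h := Subgroup.card_dvd_of_surjective ψ hsurj
    rwa [Nat.card_congr Multiplicative.toAdd, Nat.card_eq_fintype_card, Fintype.card_fun,
      ZMod.card] at h
  rw [← Subgroup.card_mul_index (P : Subgroup H)] at hdvd
  have hco : Nat.Coprime (2 ^ Fintype.card ι) (P : Subgroup H).index :=
    Nat.Coprime.pow_left _ (Nat.prime_two.coprime_iff_not_dvd.2 P.not_dvd_index)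
  have hge : 2 ^ Fintype.card ι ≤ Nat.card E := by
    rw [hcardE]
    exact Nat.le_of_dvd Nat.card_pos (hco.dvd_of_dvd_mul_right hdvd)
  exact ⟨E, ⟨⟨hEC, hsq⟩, le_antisymm hle hge⟩, hA, ⟨y, hy⟩, hP (mem_zpowers _), rfl⟩

theorem exists_big_of_invol {y : G} (hy : y ∈ centralizer ({t} : Set G)) (hy2 : y * y = 1) :
    ∃ E, Big t ι E ∧ (∀ a ∈ E, S.Adm (S.π y) a) ∧ y ∈ E :=
  S.exists_big (S.π_sq hy hy2) ⟨hy, fun _ => .inr rfl, S.v_sq hy hy2⟩ hy2

theorem two_card_le {R : Subgroup G} (hR : IsPGroup 2 R) {m : Perm ι} (hm : ∀ i, m (m i) = i)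
    (hA : ∀ a ∈ R, S.Adm m a) : Nat.card R ≤ 2 ^ Fintype.card ι := by
  have hC : R ≤ centralizer ({t} : Set G) := fun a ha => (hA a ha).1
  have h := Nat.card_le_card_of_injective (fun a : R => S.coord m (a : G)) fun a b h => Subtype.ext
    (S.inj_two hR hC a.2 b.2 (S.coord_ext hm (hA a a.2) (hA b b.2) h).1
      (S.coord_ext hm (hA a a.2) (hA b b.2) h).2)
  simpa [Nat.card_eq_fintype_card] using h

theorem coord_conj_hull {m : Perm ι} (hm : ∀ i, m (m i) = i) {h a : G} (hh : S.Adm m h)
    (ha : S.Adm m a) : S.coord m (h * a * h⁻¹) = S.coord m a := by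
  have hh' : S.Adm m h⁻¹ := (S.hull m hm).inv_mem hh
  have hha : S.Adm m (h * a) := (S.hull m hm).mul_mem hh ha
  have h0 := S.coord_mul hm hh hh'
  rw [mul_inv_cancel, S.coord_one] at h0
  rw [S.coord_mul hm hha hh', S.coord_mul hm hh ha, add_right_comm, ← h0, zero_add]

theorem big_conj {E E' : Subgroup G} (hE : Big t ι E) (hE' : Big t ι E') {m : Perm ι}
    (hm : ∀ i, m (m i) = i) (hA : ∀ a ∈ E, S.Adm m a) (hA' : ∀ a ∈ E', S.Adm m a) :
    ∃ h, S.Adm m h ∧ MapsIn h E E' := by
  obtain ⟨h, hh, R, hRH, hR, hER, hmap⟩ := exists_common (K := S.hull m hm) (fun a ha => hA a ha)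
    (fun a ha => hA' a ha) hE.toElem.isTwo hE'.toElem.isTwo
  have hEq : E' = R := Subgroup.eq_of_le_of_card_ge hER
    (by rw [hE'.card]; exact S.two_card_le hR hm fun a ha => hRH ha)
  exact ⟨h, hh, fun a ha => hEq ▸ hmap a ha⟩

theorem coord_eq_of_π {m : Perm ι} {a b : G} (h : S.v a = S.v b) (h' : S.π a = S.π b) :
    S.coord m a = S.coord m b := by
  simp [coord, h, h']

/-- Conjugation by an element whose permutation commutes with `m`. -/
theorem conj_coord {m : Perm ι} (hm : ∀ i, m (m i) = i) {g : G}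
    (hg : g ∈ centralizer ({t} : Set G)) (hc : Comm m (S.π g)) :
    ∃ σ, Comm m σ ∧ ((∀ j, m j ≠ j → S.v g (S.π g j) + S.v g (m (S.π g j)) + lab m (S.π g j) =
        lab m j) → σ = S.π g) ∧
      ∀ a, S.Adm m a → S.Adm m (g * a * g⁻¹) ∧ S.coord m (g * a * g⁻¹) = pa σ (S.coord m a) := by
  classical
  set p := S.π g with hp
  set u := S.v g with hu
  let d : ι → ZMod 2 := fun j => u (p j) + u (m (p j)) + lab m (p j)
  have hmp : ∀ j, m j ≠ j → m (p j) ≠ p j := fun j hj h => hj (p.injective (by rw [hc, h]))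
  have hd : ∀ j, m j ≠ j → d (m j) = d j + 1 := fun j hj => by
    simp only [d, hc j, hm, lab_m hm (hmp j hj)]
    abel
  let τ : ι → ι := fun j => if m j ≠ j ∧ d j ≠ lab m j then m j else j
  have hcond : ∀ j, (m (m j) ≠ m j ∧ d (m j) ≠ lab m (m j)) ↔ (m j ≠ j ∧ d j ≠ lab m j) := by
    intro j
    constructor
    · rintro ⟨h1, h2⟩
      have hj : m j ≠ j := fun h => h1 (by rw [h, h])
      refine ⟨hj, fun h => h2 ?_⟩
      rw [hd j hj, lab_m hm hj, h]
    · rintro ⟨h1, h2⟩
      refine ⟨fun h => h1 (m.injective h), fun h => h2 ?_⟩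
      rw [hd j h1, lab_m hm h1] at h
      exact add_right_cancel h
  have hτ : Function.Involutive τ := by
    intro j
    by_cases h : m j ≠ j ∧ d j ≠ lab m j
    · simp only [τ, if_pos h, if_pos ((hcond j).2 h)]; exact hm j
    · simp only [τ, if_neg h]
  have hcτ : Comm m hτ.toPerm := fun j => by
    simp only [Function.Involutive.coe_toPerm, τ]
    by_cases h : m j ≠ j ∧ d j ≠ lab m j
    · rw [if_pos h, if_pos ((hcond j).2 h)]
    · rw [if_neg h, if_neg (fun h' => h ((hcond j).1 h'))]
  refine ⟨p * hτ.toPerm, hc.mul hcτ, fun hdl => ?_, fun a ha => ?_⟩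
  · refine Equiv.ext fun j => ?_
    rw [Perm.mul_apply, Function.Involutive.coe_toPerm]
    simp only [τ]
    rw [if_neg]
    rintro ⟨h1, h2⟩
    exact h2 (hdl j h1)
  have hb : ∀ j, S.π (g * a * g⁻¹) (p j) = p (S.π a j) := fun j => by
    rw [S.π_conj hg ha.1]
    simp [hp]
  have hv : ∀ j, S.v (g * a * g⁻¹) (p j) = u (p j) + S.v a j + u (p (S.π a j)) := fun j => by
    rw [S.v_conj hg ha.1]
    simp only [Pi.add_apply, pa_apply, hp, hu, symm_apply_apply]
    congr 1
    congr 1
    rw [symm_apply_eq]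
    simp [S.adm_inv hm ha]
  have hadm : S.Adm m (g * a * g⁻¹) := by
    refine ⟨mul_mem (mul_mem hg ha.1) (inv_mem hg), fun i => ?_, fun i => ?_⟩
    · obtain ⟨j, rfl⟩ := p.surjective i
      rw [hb]
      rcases ha.2.1 j with h | h
      · exact .inl (by rw [h])
      · exact .inr (by rw [h, hc])
    · obtain ⟨j, rfl⟩ := p.surjective i
      rw [← hc, hv, hv, ha.2.2 j]
      rcases ha.2.1 j with h | h
      · have h' : S.π a (m j) = m j := by
          rcases ha.2.1 (m j) with h' | h'
          · exact h'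
          · rw [hm] at h'; exact ((S.π a).injective (h'.trans h.symm)).symm ▸ h
        rw [h, h', add_right_comm, z2_add, add_right_comm, z2_add]
      · have h' : S.π a (m j) = j := by rw [← h, S.adm_inv hm ha]
        rw [h, h']; abel
  refine ⟨hadm, funext fun i => ?_⟩
  obtain ⟨j, rfl⟩ := (p * hτ.toPerm).surjective i
  rw [pa_apply, symm_apply_apply, Perm.mul_apply, Function.Involutive.coe_toPerm]
  have hval : ∀ k, S.coord m (g * a * g⁻¹) (p k) =
      S.v a k + if S.π a k = k then 0 else d k := by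
    intro k
    simp only [coord, Pi.add_apply, hv k, hb k, p.injective.eq_iff]
    by_cases h : S.π a k = k
    · simp only [if_pos h]
      rw [h]
      linear_combination z2_add (u (p k))
    · simp only [if_neg h, d]
      rw [(ha.2.1 k).resolve_left h, hc]
      abel
  by_cases h : m j ≠ j ∧ d j ≠ lab m j
  · have hτj : τ j = m j := by simp only [τ, if_pos h]
    rw [hτj, hval, ha.2.2 j]
    simp only [coord, Pi.add_apply]
    by_cases h' : S.π a j = j
    · have h'' : S.π a (m j) = m j := by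
        rcases ha.2.1 (m j) with k | k
        · exact k
        · rw [hm] at k; exact ((S.π a).injective (k.trans h'.symm)).symm ▸ h'
      rw [if_pos h', if_pos h'']
    · have h'' : S.π a (m j) ≠ m j := fun k => by
        rw [← (ha.2.1 j).resolve_left h', S.adm_inv hm ha] at k; exact h' k.symm
      rw [if_neg h', if_neg h'', hd j h.1]
      congr 1
      have := z2_ne _ _ h.2
      linear_combination this + z2_add (1 : ZMod 2) - z2_add (lab m j)
  · have hτj : τ j = j := by simp only [τ, if_neg h]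
    rw [hτj, hval]
    simp only [coord, Pi.add_apply]
    congr 1
    by_cases h' : S.π a j = j
    · rw [if_pos h', if_pos h']
    · rw [if_neg h', if_neg h']
      have hmj : m j ≠ j := fun k => h' ((ha.2.1 j).elim id (fun q => q.trans k))
      by_contra k
      exact h ⟨hmj, k⟩

theorem comm_of_norm {E : Subgroup G} (hE : Big t ι E) {m : Perm ι} (hm : ∀ i, m (m i) = i)
    (hA : ∀ a ∈ E, S.Adm m a) {g : G} (hg : g ∈ centralizer ({t} : Set G)) (hn : MapsIn g E E) :
    Comm m (S.π g) := by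
  obtain ⟨w, hw, hwc⟩ := S.coord_surj hE hm hA (lab m)
  have hmove : ∀ j, m j ≠ j → S.π w j = m j := by
    intro j hj
    refine ((hA w hw).2.1 j).resolve_left fun h => ?_
    have := S.half_coord hm (hA w hw) j
    rw [hwc, if_pos h, lab_m hm hj, ← add_assoc, z2_add, zero_add] at this
    exact one_ne_zero this
  have key : ∀ g, g ∈ centralizer ({t} : Set G) → MapsIn g E E → ∀ j, m j ≠ j →
      S.π g (m j) = m (S.π g j) := by
    intro g hg hn j hj
    have h := (hA _ (hn w hw)).2.1 (S.π g j)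
    have he : S.π (g * w * g⁻¹) (S.π g j) = S.π g (m j) := by
      rw [S.π_conj hg (hE.le hw)]
      simp [hmove j hj]
    rw [he] at h
    exact h.resolve_left fun k => hj ((S.π g).injective k)
  intro j
  by_cases hj : m j = j
  · rw [hj]
    by_contra h
    have hn' := hn.inv le_rfl
    have := key g⁻¹ (inv_mem hg) hn' (S.π g j) (fun k => h k.symm)
    rw [S.π_inv hg, Perm.inv_def, symm_apply_apply, hj, symm_apply_eq] at this
    exact h this.symm
  · exact key g hg hn j hj

theorem exists_perm_norm {E : Subgroup G} (hE : Big t ι E) {m : Perm ι} (hm : ∀ i, m (m i) = i)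
    (hA : ∀ a ∈ E, S.Adm m a) {σ : Perm ι} (hσ : Comm m σ) :
    ∃ g ∈ centralizer ({t} : Set G), MapsIn g E E ∧
      ∀ a ∈ E, S.coord m (g * a * g⁻¹) = pa σ (S.coord m a) := by
  classical
  let u : Vec ι := fun i => if lab m i = 1 ∧ m i ≠ i then 1 + lab m (σ.symm i) else 0
  obtain ⟨g, hg, hgv, hgπ⟩ := S.surj u σ
  obtain ⟨σ', -, hσ', hconj⟩ := S.conj_coord hm hg (hgπ ▸ hσ)
  have he : σ' = σ := by
    rw [← hgπ]
    refine hσ' fun j hj => ?_
    rw [hgπ, hgv]
    have hs : m (σ j) ≠ σ j := fun k => hj (σ.injective (by rw [hσ, k]))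
    have hss : σ.symm (m (σ j)) = m j := by rw [symm_apply_eq, hσ]
    simp only [u, symm_apply_apply, hm, lab_m hm hs, hss, lab_m hm hj]
    rcases z2 (lab m (σ j)) with h | h <;> rw [h] <;> rcases z2 (lab m j) with k | k <;> rw [k] <;>
      simp [hs, Ne.symm hs] <;> decide
  subst he
  let E' : Subgroup G := E.map (MulAut.conj g).toMonoidHom
  have hE' : Big t ι E' := by
    refine ⟨⟨?_, ?_⟩, ?_⟩
    · rintro _ ⟨a, ha, rfl⟩; exact mul_mem (mul_mem hg (hE.le ha)) (inv_mem hg)
    · rintro _ ⟨a, ha, rfl⟩; rw [← map_mul, hE.sq a ha, map_one]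
    · rw [← hE.card]
      exact (Nat.card_congr (E.equivMapOfInjective _ (MulEquiv.injective _)).toEquiv).symm
  obtain ⟨h, hh, hmap⟩ := S.big_conj hE' hE hm
    (by rintro _ ⟨a, ha, rfl⟩; exact (hconj a (hA a ha)).1) hA
  refine ⟨h * g, mul_mem hh.1 hg, MapsIn.comp (fun a ha => Subgroup.mem_map.2 ⟨a, ha, rfl⟩ : MapsIn g E E') hmap, fun a ha => ?_⟩
  rw [show h * g * a * (h * g)⁻¹ = h * (g * a * g⁻¹) * h⁻¹ by group,
    S.coord_conj_hull hm hh (hconj a (hA a ha)).1, (hconj a (hA a ha)).2]

end Setting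

end Cfsg.Lib.AltTop
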