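import Mathlib

/-! Linear frames on permutation modules over the field of two elements. -/

set_option autoImplicit false
set_option linter.unusedSectionVars false
set_option linter.unusedSimpArgs false

namespace Cfsg.Lib.AltTop

open Equiv

abbrev Vec (ι : Type*) := ι → ZMod 2

variable {ι : Type*} [Fintype ι] [DecidableEq ι]

theorem z2 : ∀ x : ZMod 2, x = 0 ∨ x = 1 := by decide
theorem z2_add : ∀ x : ZMod 2, x + x = 0 := by decide
theorem z2_ne : ∀ x y : ZMod 2, x ≠ y → x + y = 1 := by decide
theorem z2_eq : ∀ x y : ZMod 2, x + y = 0 → x = y := by decide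

theorem vec_self (v : Vec ι) : v + v = 0 := funext fun i => z2_add (v i)

theorem vec_cancel (v w : Vec ι) : v + (v + w) = w := by rw [← add_assoc, vec_self, zero_add]

/-- Coordinate vectors. -/
def e (i : ι) : Vec ι := Pi.single i 1

theorem e_same (i : ι) : e i i = 1 := Pi.single_eq_same i _
theorem e_ne {i j : ι} (h : j ≠ i) : e i j = 0 := Pi.single_eq_of_ne h _

/-- The coordinate automorphism of a permutation. -/
def pa (σ : Perm ι) : Vec ι ≃+ Vec ι where
  toFun v := fun i => v (σ.symm i)
  invFun v := fun i => v (σ i)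
  left_inv v := funext fun i => by simp
  right_inv v := funext fun i => by simp
  map_add' _ _ := rfl

@[simp] theorem pa_apply (σ : Perm ι) (v : Vec ι) (i : ι) : pa σ v i = v (σ.symm i) := rfl

theorem pa_one (σ : Perm ι) : pa σ (1 : Vec ι) = 1 := rfl

theorem pa_e (σ : Perm ι) (i : ι) : pa σ (e i) = e (σ i) := by
  funext x
  by_cases h : x = σ i
  · subst h; simp [e_same]
  · rw [pa_apply, e_ne h, e_ne]
    intro h'; exact h (by rw [← h', apply_symm_apply])

theorem pa_mul (σ τ : Perm ι) (v : Vec ι) : pa (σ * τ) v = pa σ (pa τ v) := rfl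

theorem pa_swap_eq {i j : ι} {v : Vec ι} (h : v i = v j) : pa (swap i j) v = v := by
  funext x
  rw [pa_apply, symm_swap]
  rcases eq_or_ne x i with rfl | hi
  · rw [swap_apply_left, h]
  rcases eq_or_ne x j with rfl | hj
  · rw [swap_apply_right, h]
  rw [swap_apply_of_ne_of_ne hi hj]

theorem pa_swap_ne {i j : ι} {v : Vec ι} (h : v i ≠ v j) :
    pa (swap i j) v = v + (e i + e j) := by
  have hij : i ≠ j := fun h' => h (by rw [h'])
  funext x
  rw [pa_apply, symm_swap, Pi.add_apply, Pi.add_apply]
  rcases eq_or_ne x i with rfl | hi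
  · rw [swap_apply_left, e_same, e_ne hij, add_zero]
    revert h; generalize v x = a; generalize v j = b; revert a b; decide
  rcases eq_or_ne x j with rfl | hj
  · rw [swap_apply_right, e_same, e_ne hij.symm, zero_add]
    revert h; generalize v x = a; generalize v i = b; revert a b; decide
  rw [swap_apply_of_ne_of_ne hi hj, e_ne hi, e_ne hj, add_zero, add_zero]

/-- The weight of a vector. -/
def wt (v : Vec ι) : ℕ := (Finset.univ.filter fun i => v i ≠ 0).card

theorem wt_add_le (v w : Vec ι) : wt (v + w) ≤ wt v + wt w := by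
  refine (Finset.card_le_card ?_).trans (Finset.card_union_le _ _)
  intro i hi
  simp only [Finset.mem_filter, Finset.mem_univ, true_and, Pi.add_apply, Finset.mem_union] at hi ⊢
  by_contra h
  push Not at h
  exact hi (by rw [h.1, h.2, add_zero])

theorem wt_pair_le (k l : ι) : wt (e k + e l) ≤ 2 := by
  refine (Finset.card_le_card (t := {k, l}) ?_).trans Finset.card_le_two
  intro i hi
  simp only [Finset.mem_filter, Finset.mem_univ, true_and, Pi.add_apply, Finset.mem_insert,
    Finset.mem_singleton] at hi ⊢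
  by_contra h
  push Not at h
  exact hi (by rw [e_ne h.1, e_ne h.2, add_zero])

/-- `σ` commutes with `m`, pointwise. -/
def Comm (m σ : Perm ι) : Prop := ∀ i, σ (m i) = m (σ i)

theorem Comm.mul {m σ τ : Perm ι} (h : Comm m σ) (h' : Comm m τ) : Comm m (σ * τ) := fun i => by
  simp [h' i, h (τ i)]

theorem Comm.apply_symm {m σ : Perm ι} (h : Comm m σ) (i : ι) : σ.symm (m i) = m (σ.symm i) := by
  rw [symm_apply_eq, h, apply_symm_apply]

/-- Vectors constant on the orbits of `m`. -/
def Flat (m : Perm ι) (v : Vec ι) : Prop := ∀ i, v (m i) = v i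

theorem Flat.add {m : Perm ι} {v w : Vec ι} (h : Flat m v) (h' : Flat m w) : Flat m (v + w) :=
  fun i => by simp [h i, h' i]

theorem flat_zero (m : Perm ι) : Flat m (0 : Vec ι) := fun _ => rfl
theorem flat_one (m : Perm ι) : Flat m (1 : Vec ι) := fun _ => rfl

theorem Flat.pa {m σ : Perm ι} {v : Vec ι} (h : Flat m v) (hσ : Comm m σ) :
    Flat m (pa σ v) := fun i => by
  rw [pa_apply, pa_apply, hσ.apply_symm, h]

/-- The sum of the coordinates at the fixed points of `m`. -/
def L (m : Perm ι) (v : Vec ι) : ZMod 2 := ∑ i ∈ Finset.univ.filter (fun i => m i = i), v i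

theorem L_add (m : Perm ι) (v w : Vec ι) : L m (v + w) = L m v + L m w := by
  simp [L, Finset.sum_add_distrib]

theorem L_zero (m : Perm ι) : L m (0 : Vec ι) = 0 := by simp [L]

theorem L_e (m : Perm ι) (i : ι) : L m (e i) = if m i = i then 1 else 0 := by
  simp [L, e, Pi.single_apply]

theorem L_pa {m σ : Perm ι} (hσ : Comm m σ) (v : Vec ι) : L m (pa σ v) = L m v := by
  refine (Finset.sum_equiv σ ?_ ?_).symm
  · intro i
    simp only [Finset.mem_filter, Finset.mem_univ, true_and]
    rw [← hσ]; exact σ.injective.eq_iff.symm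
  · intro i _
    simp

theorem pair_map {m : Perm ι} {k l : ι} (hkl : k ≠ l) (hc : Comm m (swap k l)) :
    (m k = k ∧ m l = l) ∨ (m k = l ∧ m l = k) := by
  have h := hc k
  rw [swap_apply_left] at h
  have h' := hc l
  rw [swap_apply_right] at h'
  rcases eq_or_ne (m k) k with h1 | h1
  · rw [h1, swap_apply_left] at h; exact .inl ⟨h1, h.symm⟩
  rcases eq_or_ne (m k) l with h2 | h2
  · rw [h2, swap_apply_right] at h; exact .inr ⟨h2, h.symm⟩
  rw [swap_apply_of_ne_of_ne h1 h2] at h
  exact absurd (m.injective h) hkl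

theorem centre_flat {m : Perm ι} {k l : ι} (hkl : k ≠ l) (hc : Comm m (swap k l)) :
    Flat m (e k + e l) ∧ L m (e k + e l) = 0 := by
  refine ⟨fun i => ?_, ?_⟩
  · have hx : pa m (e k + e l) = e k + e l := by
      rw [map_add, pa_e, pa_e]
      rcases pair_map hkl hc with ⟨a, b⟩ | ⟨a, b⟩
      · rw [a, b]
      · rw [a, b, add_comm]
    have := congrFun hx (m i)
    rw [pa_apply, symm_apply_apply] at this
    exact this.symm
  · rw [L_add, L_e, L_e]
    rcases pair_map hkl hc with ⟨a, b⟩ | ⟨a, b⟩
    · rw [if_pos a, if_pos b, z2_add]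
    · rw [if_neg (by rw [a]; exact hkl.symm), if_neg (by rw [b]; exact hkl), add_zero]

theorem pair_eq {a b c d : ι} (hcd : c ≠ d) (h : e a + e b = e c + e d) : c = a ∨ c = b := by
  by_contra hh
  push Not at hh
  have := congrFun h c
  simp [e_ne hh.1, e_ne hh.2, e_same, e_ne hcd] at this

/-- A group of automorphisms of the permutation module with the properties of the automiser of a
maximal elementary subgroup. -/
structure Frame (m : Perm ι) where
  inv : ∀ i, m (m i) = i
  even : Even (Fintype.card ι)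
  R : Set (Vec ι ≃+ Vec ι)
  trans : ∀ {f g : Vec ι ≃+ Vec ι}, f ∈ R → g ∈ R → f.trans g ∈ R
  symm : ∀ {f : Vec ι ≃+ Vec ι}, f ∈ R → f.symm ∈ R
  perm : ∀ σ : Perm ι, Comm m σ → pa σ ∈ R
  fixOne : ∀ f ∈ R, f 1 = 1 → ∃ σ, Comm m σ ∧ ∀ v, f v = pa σ v
  stab : ∀ f ∈ R, Flat m (f.symm 1) → ∀ v, Flat m v → Flat m (f v)

namespace Frame

variable {m : Perm ι} (F : Frame m)

/-- The orbit of the all-one vector. -/
def Om (u : Vec ι) : Prop := ∃ f ∈ F.R, f 1 = u

theorem om_one : F.Om 1 := ⟨_, F.perm 1 (fun _ => rfl), pa_one 1⟩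

theorem om_pa {σ : Perm ι} (hσ : Comm m σ) {u : Vec ι} (h : F.Om u) : F.Om (pa σ u) := by
  obtain ⟨f, hf, rfl⟩ := h
  exact ⟨f.trans (pa σ), F.trans hf (F.perm σ hσ), rfl⟩

theorem om_map {g : Vec ι ≃+ Vec ι} (hg : g ∈ F.R) {u : Vec ι} (h : F.Om u) : F.Om (g u) := by
  obtain ⟨f, hf, rfl⟩ := h
  exact ⟨f.trans g, F.trans hf hg, rfl⟩

/-- Every flat element of the orbit other than the all-one vector has odd sum. -/
def OddW : Prop := ∀ u, F.Om u → Flat m u → u ≠ 1 → L m u = 1

theorem conj_perm {f : Vec ι ≃+ Vec ι} (hf : f ∈ F.R) {σ : Perm ι} (hσ : Comm m σ)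
    (hu : pa σ (f 1) = f 1) : ∃ σ', Comm m σ' ∧ ∀ v, f.symm (pa σ (f v)) = pa σ' v := by
  obtain ⟨σ', h1, h2⟩ := F.fixOne ((f.trans (pa σ)).trans f.symm)
    (F.trans (F.trans hf (F.perm σ hσ)) (F.symm hf)) (by simp [hu])
  exact ⟨σ', h1, fun v => by rw [← h2 v]; rfl⟩

theorem centre {f : Vec ι ≃+ Vec ι} (hf : f ∈ F.R) {i j : ι} (hij : i ≠ j) (hc : Comm m (swap i j))
    (hu : f 1 i = f 1 j) : ∃ k l, k ≠ l ∧ Comm m (swap k l) ∧ f.symm (e i + e j) = e k + e l ∧
      ∀ v, f.symm (pa (swap i j) (f v)) = pa (swap k l) v := by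
  obtain ⟨σ, hσ, hσv⟩ := F.conj_perm hf hc (pa_swap_eq hu)
  set d := f.symm (e i + e j) with hd
  have hcases : ∀ v, pa σ v = v ∨ pa σ v = v + d := by
    intro v
    rw [← hσv v]
    rcases eq_or_ne (f v i) (f v j) with h | h
    · left; rw [pa_swap_eq h, AddEquiv.symm_apply_apply]
    · right; rw [pa_swap_ne h, map_add, AddEquiv.symm_apply_apply]
  have hmove : ∀ k, σ k ≠ k → d = e k + e (σ k) := by
    intro k hk
    rcases hcases (e k) with h | h
    · rw [pa_e] at h
      exact absurd (by
        have := congrFun h k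
        rw [e_ne hk.symm, e_same] at this
        exact this) zero_ne_one
    · rw [pa_e] at h
      rw [h, vec_cancel]
  obtain ⟨k, hk⟩ : ∃ k, σ k ≠ k := by
    by_contra h
    push Not at h
    have hσ1 : σ = 1 := Equiv.ext h
    have h' := hσv (f.symm (e i))
    rw [AddEquiv.apply_symm_apply, pa_e, swap_apply_left, hσ1] at h'
    have h'' := congrFun (f.symm.injective (h'.trans (show pa (1 : Perm ι) _ = _ from rfl))) j
    rw [e_same, e_ne hij.symm] at h''
    exact one_ne_zero h''
  have hd' := hmove k hk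
  have hk' : σ (σ k) ≠ σ k := fun h => hk (σ.injective h)
  have hback : σ (σ k) = k := by
    rcases pair_eq (a := k) (b := σ k) hk' (c := σ (σ k)) (d := σ k)
      (by rw [← hd', hmove _ hk', add_comm]) with h | h
    · exact h
    · exact absurd h hk'
  have hσeq : σ = swap k (σ k) := by
    ext x
    rcases eq_or_ne x k with rfl | h1
    · rw [swap_apply_left]
    rcases eq_or_ne x (σ k) with rfl | h2
    · rw [swap_apply_right, hback]
    rw [swap_apply_of_ne_of_ne h1 h2]
    by_contra h3
    rcases pair_eq (a := k) (b := σ k) (c := x) (d := σ x) (fun h => h3 h.symm)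
      (by rw [← hd', hmove x h3]) with h | h
    · exact h1 h
    · exact h2 h
  exact ⟨k, σ k, hk.symm, hσeq ▸ hσ, hd', fun v => (hσv v).trans (by rw [← hσeq])⟩

theorem sum_centres {f : Vec ι ≃+ Vec ι} (hf : f ∈ F.R) : ∀ v : Vec ι, Flat m v → L m v = 0 →
    (∀ i, v i = 1 → m i ≠ i → f 1 i = f 1 (m i)) →
    (∀ i j, v i = 1 → v j = 1 → m i = i → m j = j → f 1 i = f 1 j) →
    Flat m (f.symm v) ∧ L m (f.symm v) = 0 ∧ wt (f.symm v) ≤ wt v := by
  intro v
  induction hn : wt v using Nat.strong_induction_on generalizing v with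
  | _ n ih =>
    intro hv hL h1 h2
    by_cases h0 : v = 0
    · subst h0; rw [map_zero]; exact ⟨flat_zero m, L_zero m, hn.le⟩
    obtain ⟨i, hi⟩ := Function.ne_iff.1 h0
    have hi : v i = 1 := (z2 (v i)).resolve_left hi
    obtain ⟨j, hij, hj, hc, hu⟩ : ∃ j, i ≠ j ∧ v j = 1 ∧ Comm m (swap i j) ∧ f 1 i = f 1 j := by
      by_cases hm : m i = i
      · obtain ⟨j, hmj, hne, hj⟩ : ∃ j, m j = j ∧ j ≠ i ∧ v j = 1 := by
          by_contra h
          push Not at h
          have hsum : L m v = v i := by
            refine Finset.sum_eq_single i (fun j hj hne => ?_) (fun h' => absurd (by simp [hm]) h')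
            simp only [Finset.mem_filter, Finset.mem_univ, true_and] at hj
            exact (z2 (v j)).resolve_right (h j hj hne)
          rw [hsum, hi] at hL
          exact one_ne_zero hL
        refine ⟨j, hne.symm, hj, fun x => ?_, h2 i j hi hj hm hmj⟩
        rcases eq_or_ne x i with rfl | hx
        · rw [hm, swap_apply_left, hmj]
        rcases eq_or_ne x j with rfl | hx'
        · rw [hmj, swap_apply_right, hm]
        rw [swap_apply_of_ne_of_ne hx hx', swap_apply_of_ne_of_ne]
        · intro h; exact hx (m.injective (h.trans hm.symm))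
        · intro h; exact hx' (m.injective (h.trans hmj.symm))
      · refine ⟨m i, fun h => hm h.symm, by rw [hv, hi], fun x => ?_, h1 i hi hm⟩
        rcases eq_or_ne x i with rfl | hx
        · rw [swap_apply_right, swap_apply_left, F.inv]
        rcases eq_or_ne x (m i) with rfl | hx'
        · rw [F.inv, swap_apply_left, swap_apply_right]
        rw [swap_apply_of_ne_of_ne hx hx', swap_apply_of_ne_of_ne]
        · intro h; exact hx' (by rw [← h, F.inv])
        · intro h; exact hx (m.injective h)
    obtain ⟨k, l, hkl, hckl, hd, -⟩ := F.centre hf hij hc hu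
    set v' := v + (e i + e j) with hv'
    have hle : ∀ x, v' x = 1 → v x = 1 := by
      intro x hx
      by_cases hxi : x = i
      · exact hxi ▸ hi
      by_cases hxj : x = j
      · exact hxj ▸ hj
      simpa [hv', e_ne hxi, e_ne hxj] using hx
    have hwt : wt v' + 2 = wt v := by
      have hs : (Finset.univ.filter fun x => v x ≠ 0) =
          (Finset.univ.filter fun x => v' x ≠ 0) ∪ {i, j} := by
        ext x
        simp only [Finset.mem_filter, Finset.mem_univ, true_and, Finset.mem_union,
          Finset.mem_insert, Finset.mem_singleton]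
        by_cases hxi : x = i
        · simp [hxi, hi]
        by_cases hxj : x = j
        · simp [hxj, hj]
        simp [hv', e_ne hxi, e_ne hxj, hxi, hxj]
      rw [wt, wt, hs, Finset.card_union_of_disjoint, Finset.card_pair hij]
      rw [Finset.disjoint_left]
      intro x hx
      simp only [Finset.mem_filter, Finset.mem_univ, true_and, hv', Pi.add_apply] at hx
      simp only [Finset.mem_insert, Finset.mem_singleton]
      rintro (rfl | rfl)
      · exact hx (by rw [hi, e_same, e_ne hij]; decide)
      · exact hx (by rw [hj, e_same, e_ne hij.symm]; decide)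
    obtain ⟨a, b⟩ := centre_flat hij hc
    obtain ⟨r1, r2, r3⟩ := ih (wt v') (by omega) v' rfl (hv.add a)
      (by rw [L_add, hL, b, add_zero]) (fun x hx => h1 x (hle x hx))
      (fun x y hx hy => h2 x y (hle x hx) (hle y hy))
    obtain ⟨a', b'⟩ := centre_flat hkl hckl
    have hv2 : f.symm v = f.symm v' + (e k + e l) := by
      rw [← hd, ← map_add, hv', add_assoc, vec_self, add_zero]
    rw [hv2]
    refine ⟨r1.add a', by rw [L_add, r2, b', add_zero], ?_⟩
    have := wt_add_le (f.symm v') (e k + e l)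
    have := wt_pair_le k l
    omega

end Frame

end Cfsg.Lib.AltTop
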