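import Cfsg.Agent.AltTopType.Frame

/-! The shape of the orbit of the all-one vector in a linear frame. -/

set_option autoImplicit false
set_option linter.unusedSectionVars false
set_option linter.unusedSimpArgs false

namespace Cfsg.Lib.AltTop

open Equiv

variable {ι : Type*} [Fintype ι] [DecidableEq ι]

/-- Halfness of a vector at a pair. -/
def half (m : Perm ι) (v : Vec ι) (i : ι) : ZMod 2 := v i + v (m i)

theorem half_add (m : Perm ι) (v w : Vec ι) (i : ι) :
    half m (v + w) i = half m v i + half m w i := by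
  simp only [half, Pi.add_apply]; abel

theorem half_one (m : Perm ι) (i : ι) : half m (1 : Vec ι) i = 0 := z2_add _

theorem half_m {m : Perm ι} (hm : ∀ i, m (m i) = i) (v : Vec ι) (i : ι) :
    half m v (m i) = half m v i := by
  rw [half, half, hm, add_comm]

theorem flat_iff {m : Perm ι} {v : Vec ι} : Flat m v ↔ ∀ i, half m v i = 0 :=
  ⟨fun h i => by rw [half, h i, z2_add], fun h i => (z2_eq _ _ (h i)).symm⟩

theorem half_pa {m σ : Perm ι} (hσ : Comm m σ) (v : Vec ι) (i : ι) :
    half m (pa σ v) (σ i) = half m v i := by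
  simp only [half, pa_apply, hσ.apply_symm, symm_apply_apply]

theorem comm_swap_fixed {m : Perm ι} {i j : ι} (hi : m i = i) (hj : m j = j) :
    Comm m (swap i j) := by
  intro x
  rcases eq_or_ne x i with rfl | hx
  · rw [hi, swap_apply_left, hj]
  rcases eq_or_ne x j with rfl | hx'
  · rw [hj, swap_apply_right, hi]
  rw [swap_apply_of_ne_of_ne hx hx', swap_apply_of_ne_of_ne]
  · intro h; exact hx (m.injective (h.trans hi.symm))
  · intro h; exact hx' (m.injective (h.trans hj.symm))

theorem comm_swap_pair {m : Perm ι} (hm : ∀ i, m (m i) = i) (i : ι) :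
    Comm m (swap i (m i)) := by
  intro x
  rcases eq_or_ne x i with rfl | hx
  · rw [swap_apply_right, swap_apply_left, hm]
  rcases eq_or_ne x (m i) with rfl | hx'
  · rw [hm, swap_apply_left, swap_apply_right]
  rw [swap_apply_of_ne_of_ne hx hx', swap_apply_of_ne_of_ne]
  · intro h; exact hx' (by rw [← h, hm])
  · intro h; exact hx (m.injective h)

namespace Frame

variable {m : Perm ι} (F : Frame m)
include F

theorem sum_flat {v : Vec ι} (hv : Flat m v) : ∑ i, v i = L m v := by
  rw [← Finset.sum_filter_add_sum_filter_not Finset.univ (fun i => m i = i)]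
  refine add_eq_left.2 ?_
  refine Finset.sum_involution (fun i _ => m i) (fun i _ => by rw [hv, z2_add]) ?_ ?_ ?_
  · intro i hi _
    simpa using hi
  · intro i hi
    simp only [Finset.mem_filter, Finset.mem_univ, true_and, F.inv] at hi ⊢
    exact fun h => hi h.symm
  · intro i _
    exact F.inv i

theorem L_one : L m (1 : Vec ι) = 0 := by
  rw [← F.sum_flat (flat_one m)]
  obtain ⟨k, hk⟩ := F.even
  simp [hk, z2_add]

theorem L_const {v : Vec ι} (h : ∀ i j, m i = i → m j = j → v i = v j) : L m v = 0 := by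
  by_cases h' : ∃ i, m i = i
  · obtain ⟨i, hi⟩ := h'
    have hcongr : L m v = ∑ x ∈ Finset.univ.filter (fun x => m x = x), v i * (1 : Vec ι) x := by
      refine Finset.sum_congr rfl fun x hx => ?_
      simp only [Finset.mem_filter, Finset.mem_univ, true_and] at hx
      rw [h x i hx hi, Pi.one_apply, mul_one]
    rw [hcongr, ← Finset.mul_sum]
    have := F.L_one
    rw [L] at this
    rw [this, mul_zero]
  · exact Finset.sum_eq_zero fun i hi => absurd ⟨i, (Finset.mem_filter.1 hi).2⟩ h'

theorem no_two_two (hodd : F.OddW) {u : Vec ι} (hu : F.Om u) {i₁ i₂ j₁ j₂ : ι}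
    (hi₁ : m i₁ = i₁) (hi₂ : m i₂ = i₂) (hj₁ : m j₁ = j₁) (hj₂ : m j₂ = j₂)
    (hi : i₁ ≠ i₂) (hj : j₁ ≠ j₂) (a₁ : u i₁ = 1) (a₂ : u i₂ = 1) (b₁ : u j₁ = 0) (b₂ : u j₂ = 0) :
    False := by
  obtain ⟨f, hf, rfl⟩ := hu
  set u := f 1 with hu
  have hij : ∀ a b, u a = 1 → u b = 0 → a ≠ b := fun a b ha hb h => by
    rw [h, hb] at ha; exact zero_ne_one ha
  obtain ⟨k, l, hkl, hc, hd, -⟩ := F.centre hf hi (comm_swap_fixed hi₁ hi₂) (a₁.trans a₂.symm)
  obtain ⟨k', l', hkl', hc', hd', -⟩ := F.centre hf hj (comm_swap_fixed hj₁ hj₂) (b₁.trans b₂.symm)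
  set σ := swap i₁ j₁ * swap i₂ j₂ with hσ
  have hcσ : Comm m σ := (comm_swap_fixed hi₁ hj₁).mul (comm_swap_fixed hi₂ hj₂)
  have h2 : pa (swap i₂ j₂) u = u + (e i₂ + e j₂) := pa_swap_ne (by rw [a₂, b₂]; decide)
  have h1 : (u + (e i₂ + e j₂)) i₁ ≠ (u + (e i₂ + e j₂)) j₁ := by
    simp [a₁, b₁, e_ne hi, e_ne (hij _ _ a₁ b₂), e_ne (hij _ _ a₂ b₁).symm, e_ne hj]
  have hv : pa σ u = u + ((e i₁ + e i₂) + (e j₁ + e j₂)) := by
    rw [hσ, pa_mul, h2, pa_swap_ne h1]; abel
  have hom : F.Om (f.symm (pa σ u)) := F.om_map (F.symm hf) (F.om_pa hcσ ⟨f, hf, rfl⟩)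
  rw [hv, map_add, hu, AddEquiv.symm_apply_apply, map_add, hd, hd'] at hom
  obtain ⟨c1, c2⟩ := centre_flat hkl hc
  obtain ⟨c3, c4⟩ := centre_flat hkl' hc'
  by_cases hone : (1 : Vec ι) + ((e k + e l) + (e k' + e l')) = 1
  · rw [add_eq_left, ← hd, ← hd', ← map_add, map_eq_zero_iff _ f.symm.injective] at hone
    have := congrFun hone i₁
    simp [e_same, e_ne hi, e_ne (hij _ _ a₁ b₁), e_ne (hij _ _ a₁ b₂)] at this
  · have := hodd _ hom ((flat_one m).add (c1.add c3)) hone
    rw [L_add, F.L_one, L_add, c2, c4] at this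
    simp at this

theorem L_of_notConst (hodd : F.OddW) {u : Vec ι} (hu : F.Om u) {i j : ι} (hi : m i = i)
    (hj : m j = j) (ai : u i = 1) (aj : u j = 0) :
    L m u = 1 ∧ ((∀ x, m x = x → x ≠ i → u x = 0) ∨ (∀ x, m x = x → x ≠ j → u x = 1)) := by
  have hdich : (∀ x, m x = x → x ≠ i → u x = 0) ∨ (∀ x, m x = x → x ≠ j → u x = 1) := by
    by_contra h
    push Not at h
    obtain ⟨⟨x, hx, hxi, hx1⟩, y, hy, hyj, hy1⟩ := h
    exact F.no_two_two hodd hu hi hx hj hy hxi.symm hyj.symm ai ((z2 _).resolve_left hx1) aj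
      ((z2 _).resolve_right hy1)
  refine ⟨?_, hdich⟩
  rcases hdich with h | h
  · rw [L, Finset.sum_eq_single i (fun x hx hne => h x (Finset.mem_filter.1 hx).2 hne)
      (fun h' => absurd (by simp [hi]) h'), ai]
  · have hw : L m (u + 1) = 1 := by
      rw [L, Finset.sum_eq_single j (fun x hx hne => by
        rw [Pi.add_apply, h x (Finset.mem_filter.1 hx).2 hne, Pi.one_apply]; decide)
        (fun h' => absurd (by simp [hj]) h'), Pi.add_apply, aj, Pi.one_apply,
        zero_add]
    rwa [L_add, F.L_one, add_zero] at hw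

/-- In a frame with a single orbit shape, every member of the orbit other than one is odd. -/
theorem oddW_of_trivial (hm : ∀ i, m i = i) : F.OddW := by
  intro u hu _ hu1
  refine (z2 _).resolve_left fun hL => hu1 ?_
  obtain ⟨f, hf, rfl⟩ := hu
  obtain ⟨-, -, h⟩ := F.sum_centres hf (f 1) (fun i => by rw [hm]) hL
    (fun i _ h => absurd (hm i) h) (fun i j hi hj _ _ => by rw [hi, hj])
  rw [AddEquiv.symm_apply_apply] at h
  have hcard : wt (1 : Vec ι) = Fintype.card ι := by simp [wt]
  rw [hcard] at h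
  funext i
  have hfilter : (Finset.univ.filter fun i => f 1 i ≠ 0) = Finset.univ :=
    Finset.eq_univ_of_card _ (le_antisymm (Finset.card_le_univ _) h)
  have := Finset.eq_univ_iff_forall.1 hfilter i
  exact (z2 _).resolve_left (Finset.mem_filter.1 this).2

/-- Minimal support forces a single moved pair. -/
theorem pairs_eq (hodd : F.OddW)
    (hmin : ∀ u, F.Om u → ¬ Flat m u → ∀ i, m i ≠ i → half m u i = 1)
    {u : Vec ι} (hu : F.Om u) (hnf : ¬ Flat m u) {p q : ι} (hp : m p ≠ p) (hq : m q ≠ q) :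
    q = p ∨ q = m p := by
  by_contra hne
  push Not at hne
  have hh := hmin u hu hnf
  obtain ⟨f, hf, rfl⟩ := hu
  set u := f 1 with hu
  obtain ⟨a, b, ha, hb, hma, hmb, hua, hub, hab, hamb⟩ : ∃ a b, (a = p ∨ a = m p) ∧
      (b = q ∨ b = m q) ∧ m a ≠ a ∧ m b ≠ b ∧ u a = 1 ∧ u b = 1 ∧ b ≠ a ∧ b ≠ m a := by
    have pick : ∀ x, m x ≠ x → ∃ a, (a = x ∨ a = m x) ∧ m a ≠ a ∧ u a = 1 := by
      intro x hx
      have := hh x hx
      rcases z2 (u x) with h | h
      · refine ⟨m x, .inr rfl, by rw [F.inv]; exact hx.symm, ?_⟩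
        rwa [half, h, zero_add] at this
      · exact ⟨x, .inl rfl, hx, h⟩
    obtain ⟨a, ha, hma, hua⟩ := pick p hp
    obtain ⟨b, hb, hmb, hub⟩ := pick q hq
    refine ⟨a, b, ha, hb, hma, hmb, hua, hub, ?_, ?_⟩
    · rcases ha with rfl | rfl <;> rcases hb with rfl | rfl
      · exact hne.1
      · intro h; exact hne.2 (by rw [← h, F.inv])
      · exact hne.2
      · intro h; exact hne.1 (m.injective h)
    · rcases ha with rfl | rfl <;> rcases hb with rfl | rfl
      · exact hne.2
      · intro h; exact hne.1 (m.injective h)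
      · rw [F.inv]; exact hne.1
      · rw [F.inv]; intro h; exact hne.2 (by rw [← h, F.inv])
  have hua' : u (m a) = 0 := by
    have := hh a hma
    rw [half, hua] at this
    exact (z2 _).resolve_right fun h => by rw [h] at this; exact absurd this (by decide)
  have hub' : u (m b) = 0 := by
    have := hh b hmb
    rw [half, hub] at this
    exact (z2 _).resolve_right fun h => by rw [h] at this; exact absurd this (by decide)
  -- the perm exchanging the two pairs
  set σ := swap a b * swap (m a) (m b) with hσ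
  have hmab : m a ≠ m b := fun h => hab (m.injective h).symm
  have hbma : m b ≠ a := fun h => hamb (by rw [← h, F.inv])
  have sa : σ a = b := by
    rw [hσ, Perm.mul_apply, swap_apply_of_ne_of_ne hma.symm hbma.symm, swap_apply_left]
  have sb : σ b = a := by
    rw [hσ, Perm.mul_apply, swap_apply_of_ne_of_ne hamb hmb.symm, swap_apply_right]
  have sma : σ (m a) = m b := by
    rw [hσ, Perm.mul_apply, swap_apply_left, swap_apply_of_ne_of_ne hbma hmb]
  have smb : σ (m b) = m a := by
    rw [hσ, Perm.mul_apply, swap_apply_right, swap_apply_of_ne_of_ne hma hamb.symm]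
  have hcσ : Comm m σ := by
    intro x
    rcases eq_or_ne x a with rfl | h1
    · rw [sa, sma]
    rcases eq_or_ne x b with rfl | h2
    · rw [sb, smb]
    rcases eq_or_ne x (m a) with rfl | h3
    · rw [F.inv, sa, sma, F.inv]
    rcases eq_or_ne x (m b) with rfl | h4
    · rw [F.inv, sb, smb, F.inv]
    rw [hσ, Perm.mul_apply, Perm.mul_apply, swap_apply_of_ne_of_ne h3 h4, swap_apply_of_ne_of_ne h1 h2]
    have m1 : m x ≠ a := fun h => h3 (by rw [← h, F.inv])
    have m2 : m x ≠ b := fun h => h4 (by rw [← h, F.inv])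
    have m3 : m x ≠ m a := fun h => h1 (m.injective h)
    have m4 : m x ≠ m b := fun h => h2 (m.injective h)
    rw [swap_apply_of_ne_of_ne m3 m4, swap_apply_of_ne_of_ne m1 m2]
  have hσu : pa σ u = u := by
    rw [hσ, pa_mul, pa_swap_eq (hua'.trans hub'.symm), pa_swap_eq (hua.trans hub.symm)]
  obtain ⟨σ', hσ', hconj⟩ := F.conj_perm hf hcσ (hu ▸ hσu)
  set fa : Vec ι := e a + e (m a) with hfa
  set fb : Vec ι := e b + e (m b) with hfb
  have hφ : f.symm fb = pa σ' (f.symm fa) := by
    rw [← hconj, AddEquiv.apply_symm_apply, hfa, map_add (pa σ), pa_e, pa_e, sa, sma]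
  have hta : pa (swap a (m a)) u = u + fa := pa_swap_ne (by rw [hua, hua']; decide)
  have e1 : F.Om (1 + f.symm fa) := by
    have := F.om_map (F.symm hf) (F.om_pa (comm_swap_pair F.inv a) ⟨f, hf, rfl⟩)
    rwa [← hu, hta, map_add, hu, AddEquiv.symm_apply_apply] at this
  have e2 : F.Om (1 + (f.symm fa + f.symm fb)) := by
    have := F.om_map (F.symm hf) (F.om_pa ((comm_swap_pair F.inv b).mul (comm_swap_pair F.inv a))
      ⟨f, hf, rfl⟩)
    rw [← hu, pa_mul, hta, pa_swap_ne, add_assoc, map_add, hu, AddEquiv.symm_apply_apply,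
      map_add] at this
    · exact this
    · rw [hfa, Pi.add_apply, Pi.add_apply, Pi.add_apply, Pi.add_apply, e_ne hab, e_ne hamb,
        e_ne hbma, e_ne hmab.symm, hub, hub']
      decide
  have hflat : Flat m (f.symm fa + f.symm fb) := by
    rw [flat_iff]
    intro i
    rw [half_add, hφ]
    rcases eq_or_ne (m i) i with hi | hi
    · simp [half, hi, z2_add]
    by_cases hf1 : Flat m (1 + f.symm fa)
    · have hfl : Flat m (f.symm fa) := by
        have := (flat_one (ι := ι) m).add hf1
        rwa [vec_cancel] at this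
      rw [flat_iff.1 hfl, flat_iff.1 (hfl.pa hσ'), add_zero]
    · have hhalf : ∀ x, m x ≠ x → half m (f.symm fa) x = 1 := fun x hx => by
        have := hmin _ e1 hf1 x hx
        rwa [half_add, half_one, zero_add] at this
      have hx : σ'.symm i = σ'.symm i := rfl
      have hmx : m (σ'.symm i) ≠ σ'.symm i := fun h => hi (by
        rw [← hσ'.apply_symm] at h; exact σ'.symm.injective h)
      have h2 := half_pa hσ' (f.symm fa) (σ'.symm i)
      rw [apply_symm_apply] at h2
      rw [h2, hhalf i hi, hhalf _ hmx]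
      decide
  by_cases hone : (1 : Vec ι) + (f.symm fa + f.symm fb) = 1
  · rw [add_eq_left, ← map_add, map_eq_zero_iff _ f.symm.injective] at hone
    have := congrFun hone a
    simp [hfa, hfb, e_same, e_ne hma.symm, e_ne hab.symm, e_ne hbma.symm] at this
  · have h := hodd _ e2 ((flat_one m).add hflat) hone
    rw [L_add, F.L_one, L_add, hφ, L_pa hσ', z2_add] at h
    exact absurd h (by decide)

/-- With a single moved pair, some member of the orbit is constant off that pair. -/
theorem exists_const (hodd : F.OddW) {a : ι} (ha : m a ≠ a)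
    (hone : ∀ i, m i ≠ i → i = a ∨ i = m a) {u : Vec ι} (hu : F.Om u) (hnf : ¬ Flat m u) :
    ∃ u, F.Om u ∧ u a ≠ u (m a) ∧ ∀ i j, m i = i → m j = j → u i = u j := by
  by_contra hno
  push Not at hno
  have hhalf : ∀ w : Vec ι, ¬ Flat m w → w a ≠ w (m a) := by
    intro w hw h
    refine hw fun i => ?_
    rcases eq_or_ne (m i) i with hi | hi
    · rw [hi]
    rcases hone i hi with rfl | rfl
    · exact h.symm
    · rw [F.inv]; exact h
  have hL : ∀ w, F.Om w → w ≠ 1 → L m w = 1 := by
    intro w hw hw1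
    by_cases hfl : Flat m w
    · exact hodd w hw hfl hw1
    obtain ⟨i, j, hi, hj, hij⟩ := hno w hw (hhalf w hfl)
    rcases z2 (w i) with h | h
    · exact (F.L_of_notConst hodd hw hj hi ((z2 _).resolve_left fun h' => hij (h.trans h'.symm)) h).1
    · exact (F.L_of_notConst hodd hw hi hj h ((z2 _).resolve_right fun h' => hij (h.trans h'.symm))).1
  obtain ⟨i, j, hi, hj, hij⟩ := hno u hu (hhalf u hnf)
  have hua := hhalf u hnf
  obtain ⟨f, hf, rfl⟩ := hu
  set u := f 1 with hu
  have hai : a ≠ i := fun h => ha (h ▸ hi)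
  have haj : a ≠ j := fun h => ha (h ▸ hj)
  have hmai : m a ≠ i := fun h => by rw [← h, F.inv] at hi; exact ha hi.symm
  have hmaj : m a ≠ j := fun h => by rw [← h, F.inv] at hj; exact ha hj.symm
  set d : Vec ι := e i + e j with hd
  set fa : Vec ι := e a + e (m a) with hfa
  have hta : pa (swap a (m a)) u = u + fa := pa_swap_ne hua
  have htij : pa (swap i j) u = u + d := pa_swap_ne hij
  have key : ∀ {v : Vec ι}, F.Om (u + v) → v ≠ 0 → L m (f.symm v) = 1 := by
    intro v hv hv0
    have := F.om_map (F.symm hf) hv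
    rw [map_add, hu, AddEquiv.symm_apply_apply] at this
    have h := hL _ this fun h => hv0 (by
      rw [add_eq_left, map_eq_zero_iff _ f.symm.injective] at h; exact h)
    rwa [L_add, F.L_one, zero_add] at h
  have k1 : L m (f.symm fa) = 1 := by
    refine key (hta ▸ F.om_pa (comm_swap_pair F.inv a) ⟨f, hf, rfl⟩) fun h => ?_
    have := congrFun h a
    simp [hfa, e_same, e_ne ha.symm] at this
  have k2 : L m (f.symm d) = 1 := by
    refine key (htij ▸ F.om_pa (comm_swap_fixed hi hj) ⟨f, hf, rfl⟩) fun h => ?_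
    have := congrFun h i
    rw [hd, Pi.add_apply, e_same, e_ne (fun h => hij (by rw [h]))] at this
    simp at this
  have k3 : L m (f.symm (fa + d)) = 1 := by
    refine key ?_ fun h => ?_
    · have h2 : pa (swap i j) (u + fa) = u + fa + d := pa_swap_ne (by
        rw [hfa, Pi.add_apply, Pi.add_apply, Pi.add_apply, Pi.add_apply, e_ne hai.symm,
          e_ne hmai.symm, e_ne haj.symm, e_ne hmaj.symm]
        simpa using hij)
      rw [← add_assoc, ← h2, ← hta, ← pa_mul]
      exact F.om_pa ((comm_swap_fixed hi hj).mul (comm_swap_pair F.inv a)) ⟨f, hf, rfl⟩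
    · have := congrFun h a
      simp [hfa, hd, e_same, e_ne ha.symm, e_ne hai, e_ne haj] at this
  rw [map_add, L_add, k1, k2] at k3
  exact absurd k3 (by decide)

end Frame

end Cfsg.Lib.AltTop
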