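import Cfsg.Agent.AltTopType.Coord

/-! The subgroup generated by the maximal elementary abelian subgroups of a Sylow subgroup, and the
fusion it controls. -/

set_option autoImplicit false
set_option linter.unusedSectionVars false
set_option linter.unusedSimpArgs false
set_option linter.style.haveILetI false

namespace Cfsg.Lib.AltTop

open Equiv Subgroup
open scoped Pointwise

variable {G : Type*} [Group G] [Finite G] {t : G} {ι : Type*} [Fintype ι] [DecidableEq ι]

theorem exists_matching (h : Even (Fintype.card ι)) :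
    ∃ m : Perm ι, (∀ i, m (m i) = i) ∧ ∀ i, m i ≠ i := by
  obtain ⟨k, hk⟩ := h
  let f : Fin (Fintype.card ι) → Fin (Fintype.card ι) := fun i =>
    if h : i.val % 2 = 0 then ⟨i.val + 1, by omega⟩ else ⟨i.val - 1, by omega⟩
  have hf : ∀ i, f (f i) = i := fun i => by
    apply Fin.ext
    by_cases h : i.val % 2 = 0
    · simp only [f, dif_pos h, dif_neg (show ¬ (i.val + 1) % 2 = 0 by omega)]; omega
    · simp only [f, dif_neg h, dif_pos (show (i.val - 1) % 2 = 0 by omega)]; omega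
  let eq := Fintype.equivFin ι
  let F : ι → ι := fun i => eq.symm (f (eq i))
  have hF : Function.Involutive F := fun i => by simp [F, hf]
  refine ⟨hF.toPerm, hF, fun i h => ?_⟩
  have h' := congrArg (fun x => (eq x).val) h
  simp only [Function.Involutive.coe_toPerm, F, apply_symm_apply, f] at h'
  split_ifs at h' with h2 <;> simp only at h' <;> omega

/-- `p` moves points only along the pairs of `m`. -/
def Sub (m p : Perm ι) : Prop := ∀ i, p i = i ∨ p i = m i

theorem Sub.invol {m p : Perm ι} (hm : ∀ i, m (m i) = i) (h : Sub m p) (i : ι) : p (p i) = i := by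
  rcases h i with h1 | h1
  · rw [h1, h1]
  · rcases h (m i) with h2 | h2
    · rw [← h1] at h2
      exact p.injective (by rw [h2, h2])
    · rw [h1, h2, hm]

theorem Sub.symm_apply {m p : Perm ι} (hm : ∀ i, m (m i) = i) (h : Sub m p) (i : ι) :
    p.symm i = p i := by rw [symm_apply_eq, h.invol hm]

namespace Setting

variable (S : Setting t ι)
include S

/-- The action on signed points. -/
def actHom (H : Subgroup G) (hH : H ≤ centralizer ({t} : Set G)) : H →* Perm (ι × ZMod 2) where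
  toFun a :=
    { toFun := fun q => (S.π a q.1, q.2 + S.v a (S.π a q.1))
      invFun := fun q => ((S.π a).symm q.1, q.2 + S.v a q.1)
      left_inv := fun q => Prod.ext (by simp) (by simp [add_assoc, z2_add])
      right_inv := fun q => Prod.ext (by simp) (by simp [add_assoc, z2_add]) }
  map_one' := by
    refine Equiv.ext fun q => Prod.ext ?_ ?_ <;> simp [S.π_one, S.v_one]
  map_mul' a b := by
    refine Equiv.ext fun q => Prod.ext ?_ ?_
    · simp [S.π_mul (hH a.2) (hH b.2)]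
    · simp [S.π_mul (hH a.2) (hH b.2), S.v_mul (hH a.2) (hH b.2)]
      abel

theorem two_le_conj {P : Sylow 2 G} (hP : (P : Subgroup G) ≤ centralizer ({t} : Set G))
    {R : Subgroup G} (hR : IsPGroup 2 R) (hRC : R ≤ centralizer ({t} : Set G)) :
    ∃ c ∈ centralizer ({t} : Set G), MapsIn c R P := by
  obtain ⟨c, hc, Q, -, hQ, hPQ, hmap⟩ := exists_common hRC hP hR P.isPGroup'
  have : Q = P := P.is_maximal' hQ hPQ
  exact ⟨c, hc, fun a ha => this ▸ hmap a ha⟩

/-- The image of `E` under conjugation. -/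
theorem big_map {E : Subgroup G} (hE : Big t ι E) {g : G}
    (h : ∀ a ∈ E, g * a * g⁻¹ ∈ centralizer ({t} : Set G)) :
    ∃ E', Big t ι E' ∧ MapsIn g E E' ∧ ∀ b ∈ E', ∃ a ∈ E, g * a * g⁻¹ = b := by
  refine ⟨E.map (MulAut.conj g).toMonoidHom, ⟨⟨?_, ?_⟩, ?_⟩, fun a ha => Subgroup.mem_map.2 ⟨a, ha, rfl⟩,
    fun b hb => ?_⟩
  · rintro _ ⟨a, ha, rfl⟩; exact h a ha
  · rintro _ ⟨a, ha, rfl⟩; rw [← map_mul, hE.sq a ha, map_one]
  · rw [← hE.card]
    exact (Nat.card_congr (E.equivMapOfInjective _ (MulEquiv.injective _)).toEquiv).symm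
  · obtain ⟨a, ha, rfl⟩ := hb
    exact ⟨a, ha, rfl⟩

end Setting

/-- A Sylow subgroup whose image contains all flips and a full matching of transpositions. -/
structure Syl (S : Setting t ι) where
  P : Sylow 2 G
  le : (P : Subgroup G) ≤ centralizer ({t} : Set G)
  m : Perm ι
  inv : ∀ i, m (m i) = i
  fpf : ∀ i, m i ≠ i
  full : ∀ (w : Vec ι) (p : Perm ι), Sub m p → ∃ a ∈ P, S.v a = w ∧ S.π a = p
  tmem : t ∈ P

theorem exists_syl (S : Setting t ι) (ht : t * t = 1) (P : Sylow 2 G)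
    (hP : (P : Subgroup G) ≤ centralizer ({t} : Set G)) : Nonempty (Syl S) := by
  classical
  haveI : Fact (Nat.Prime 2) := ⟨Nat.prime_two⟩
  obtain ⟨m, hm, hfpf⟩ := exists_matching S.ev
  let H : Subgroup G :=
    { carrier := {a | a ∈ centralizer ({t} : Set G) ∧ Sub m (S.π a)}
      one_mem' := ⟨one_mem _, fun i => .inl (by rw [S.π_one, Perm.one_apply])⟩
      mul_mem' := fun {a b} ha hb => ⟨mul_mem ha.1 hb.1, fun i => by
        rw [S.π_mul ha.1 hb.1, Perm.mul_apply]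
        rcases hb.2 i with h | h <;> rw [h]
        · exact ha.2 i
        · rcases ha.2 (m i) with h' | h' <;> rw [h']
          · exact .inr rfl
          · exact .inl (hm i)⟩
      inv_mem' := fun {a} ha => ⟨inv_mem ha.1, fun i => by
        rw [S.π_inv ha.1, Perm.inv_def, ha.2.symm_apply hm]
        exact ha.2 i⟩ }
  let φ := S.actHom H fun a ha => ha.1
  have h4 : IsPGroup 2 φ.range := by
    rintro ⟨_, a, rfl⟩
    refine ⟨2, Subtype.ext ?_⟩
    rw [SubmonoidClass.coe_pow, OneMemClass.coe_one, ← map_pow]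
    have hC : (a : G) ∈ centralizer ({t} : Set G) := a.2.1
    have h1 : S.π ((a : G) * a) = 1 := Equiv.ext fun i => by
      rw [S.π_mul hC hC, Perm.mul_apply, a.2.2.invol hm, Perm.one_apply]
    have h2 : S.π ((a : G) ^ 2 ^ 2) = 1 ∧ S.v ((a : G) ^ 2 ^ 2) = 0 := by
      rw [show (a : G) ^ 2 ^ 2 = ((a : G) * a) * ((a : G) * a) by
        simp [pow_succ, mul_assoc]]
      refine ⟨by rw [S.π_mul (mul_mem hC hC) (mul_mem hC hC), h1, one_mul], ?_⟩
      rw [S.v_mul (mul_mem hC hC) (mul_mem hC hC), h1]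
      exact vec_self _
    refine Equiv.ext fun q => ?_
    show (S.π ((a ^ 2 ^ 2 : H) : G) q.1, q.2 + S.v ((a ^ 2 ^ 2 : H) : G) _) = q
    rw [SubmonoidClass.coe_pow, h2.1, h2.2]
    simp
  obtain ⟨P0⟩ : Nonempty (Sylow 2 H) := inferInstance
  have htop : (P0 : Subgroup H).map φ.rangeRestrict = ⊤ := by
    have h := (P0.mapSurjective φ.rangeRestrict_surjective)
    have e : (P0.mapSurjective φ.rangeRestrict_surjective : Subgroup φ.range) = ⊤ :=
      ((P0.mapSurjective φ.rangeRestrict_surjective).is_maximal'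
        (h4.of_equiv Subgroup.topEquiv.symm) le_top).symm
    simpa [Sylow.coe_mapSurjective] using e
  obtain ⟨c, hc, hmap⟩ := S.two_le_conj hP (R := (P0 : Subgroup H).map H.subtype) (P0.2.map _)
    (by rintro _ ⟨a, -, rfl⟩; exact a.2.1)
  let P' : Sylow 2 G := c⁻¹ • P
  have hP' : ∀ x, x ∈ P' ↔ c * x * c⁻¹ ∈ P := by
    intro x
    show x ∈ MulAut.conj c⁻¹ • (P : Subgroup G) ↔ _
    rw [Subgroup.mem_pointwise_smul_iff_inv_smul_mem]
    simp
    rfl
  have hle : (P' : Subgroup G) ≤ centralizer ({t} : Set G) := by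
    intro x hx
    have := hP ((hP' x).1 hx)
    rw [show x = c⁻¹ * (c * x * c⁻¹) * c by group]
    exact mul_mem (mul_mem (inv_mem hc) this) hc
  refine ⟨⟨P', hle, m, hm, hfpf, fun w p hp => ?_, ?_⟩⟩
  · obtain ⟨a, ha, hav, haπ⟩ := S.surj w p
    have haH : a ∈ H := ⟨ha, haπ ▸ hp⟩
    have hmem : φ.rangeRestrict ⟨a, haH⟩ ∈ (P0 : Subgroup H).map φ.rangeRestrict := htop ▸ mem_top _
    obtain ⟨b, hb, hbe⟩ := hmem
    have hbe' : φ b = φ ⟨a, haH⟩ := congrArg Subtype.val hbe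
    have hπ : S.π (b : G) = p := Equiv.ext fun i => by
      rw [← haπ]; exact congrArg (fun f : Perm (ι × ZMod 2) => (f (i, 0)).1) hbe'
    refine ⟨b, (hP' _).2 (hmap _ ⟨b, hb, rfl⟩), funext fun i => ?_, hπ⟩
    have h : (φ b (p.symm i, 0)).2 = (φ ⟨a, haH⟩ (p.symm i, 0)).2 := by rw [hbe']
    simpa [φ, Setting.actHom, hπ, haπ, hav] using h
  · rw [hP']
    rw [show c * t * c⁻¹ = t by rw [mem_centralizer_singleton_iff.1 hc, mul_inv_cancel_right]]
    by_contra h
    have hsup : IsPGroup 2 ↥((P : Subgroup G) ⊔ zpowers t) := by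
      have hz : IsPGroup 2 (zpowers t) := by
        obtain ⟨k, -, hk⟩ := (Nat.dvd_prime_pow Nat.prime_two).1
          (orderOf_dvd_of_pow_eq_one (show t ^ 2 ^ 1 = 1 by simpa [pow_two] using ht))
        exact IsPGroup.of_card (n := k) (by rw [Nat.card_zpowers, hk])
      refine P.2.to_sup_of_normal_right' hz ?_
      intro x hx
      refine mem_normalizer_iff.2 fun y => ?_
      have hcm : ∀ k : ℤ, Commute x (t ^ k) := fun k =>
        Commute.zpow_right (mem_centralizer_singleton_iff.1 (hP hx)) k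
      constructor
      · rintro ⟨k, rfl⟩
        exact ⟨k, by rw [(hcm k).eq, mul_inv_cancel_right]⟩
      · rintro ⟨k, hk⟩
        refine ⟨k, ?_⟩
        have hy : y = x⁻¹ * (x * y * x⁻¹) * x := by group
        have hk' : t ^ k = x * y * x⁻¹ := hk
        show t ^ k = y
        rw [hy, ← hk', (hcm k).inv_left.eq, inv_mul_cancel_right]
    exact h ((P.is_maximal' hsup le_sup_left).le ((le_sup_right : zpowers t ≤ _) (mem_zpowers t)))

namespace Syl

variable {S : Setting t ι} (Y : Syl S)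
include Y

/-- The subgroup `D`. -/
def D : Subgroup G where
  carrier := {a | a ∈ Y.P ∧ Sub Y.m (S.π a)}
  one_mem' := ⟨one_mem _, fun i => .inl (by rw [S.π_one, Perm.one_apply])⟩
  mul_mem' := fun {a b} ha hb => ⟨mul_mem ha.1 hb.1, fun i => by
    rw [S.π_mul (Y.le ha.1) (Y.le hb.1), Perm.mul_apply]
    rcases hb.2 i with h | h <;> rw [h]
    · exact ha.2 i
    · rcases ha.2 (Y.m i) with h' | h' <;> rw [h']
      · exact .inr rfl
      · exact .inl (Y.inv i)⟩
  inv_mem' := fun {a} ha => ⟨inv_mem ha.1, fun i => by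
    rw [S.π_inv (Y.le ha.1), Perm.inv_def, ha.2.symm_apply Y.inv]
    exact ha.2 i⟩

theorem inj {a b : G} (ha : a ∈ Y.P) (hb : b ∈ Y.P) (hv : S.v a = S.v b) (hπ : S.π a = S.π b) :
    a = b := S.inj_two Y.P.isPGroup' Y.le ha hb hv hπ

theorem pair_mem {c : G} (hc : c ∈ Y.P) {i j : ι} (hij : i ≠ j) (h : S.π c = swap i j) :
    j = Y.m i := by
  classical
  by_contra hj
  obtain ⟨d, hd, -, hdπ⟩ := Y.full 0 (swap i (Y.m i)) (fun x => by
    rcases eq_or_ne x i with rfl | h1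
    · exact .inr (swap_apply_left _ _)
    rcases eq_or_ne x (Y.m i) with rfl | h2
    · exact .inr (by rw [swap_apply_right, Y.inv])
    exact .inl (swap_apply_of_ne_of_ne h1 h2))
  have hq : c * d ∈ Y.P := mul_mem hc hd
  obtain ⟨k, hk⟩ := Y.P.isPGroup' ⟨c * d, hq⟩
  let πh := S.πHom Y.le
  have hk' : (swap i j * swap i (Y.m i)) ^ 2 ^ k = 1 := by
    have h1 := congrArg πh hk
    rw [map_pow, map_one] at h1
    rw [← h, ← hdπ, ← S.π_mul (Y.le hc) (Y.le hd)]
    exact h1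
  have h3 : (swap i j * swap i (Y.m i)).IsThreeCycle :=
    Perm.isThreeCycle_swap_mul_swap_same hij (fun e => Y.fpf i e.symm) hj
  have := orderOf_dvd_of_pow_eq_one hk'
  rw [h3.orderOf] at this
  exact absurd ((Nat.prime_dvd_prime_iff_eq Nat.prime_three Nat.prime_two).1
    (Nat.prime_three.dvd_of_dvd_pow this)) (by norm_num)

theorem big_sub {E : Subgroup G} (hE : Big t ι E) (hEP : E ≤ Y.P) {m : Perm ι}
    (hm : ∀ i, m (m i) = i) (hA : ∀ a ∈ E, S.Adm m a) : Sub Y.m m := by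
  intro i
  by_cases hi : m i = i
  · exact .inl hi
  obtain ⟨a, ha, hx⟩ := S.coord_surj hE hm hA (e i)
  refine .inr (Y.pair_mem (hEP ha) (i := i) (j := m i) (Ne.symm hi) (Equiv.ext fun x => ?_))
  have hh := S.half_coord hm (hA a ha) x
  rw [hx] at hh
  rcases eq_or_ne x i with rfl | h1
  · rw [swap_apply_left]
    refine ((hA a ha).2.1 x).resolve_left fun h => ?_
    rw [if_pos h, e_same, e_ne hi, add_zero] at hh
    exact one_ne_zero hh
  rcases eq_or_ne x (m i) with rfl | h2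
  · rw [swap_apply_right]
    have := ((hA a ha).2.1 (m i)).resolve_left fun h => by
      rw [if_pos h, hm, e_same, e_ne hi, zero_add] at hh
      exact one_ne_zero hh
    rwa [hm] at this
  rw [swap_apply_of_ne_of_ne h1 h2]
  by_contra h
  rw [if_neg h, e_ne h1, e_ne (fun k => h2 (by rw [← k, hm])), add_zero] at hh
  exact zero_ne_one hh

theorem big_le_D {E : Subgroup G} (hE : Big t ι E) (hEP : E ≤ Y.P) : E ≤ Y.D := by
  obtain ⟨m, hm, hA⟩ := S.exists_m hE
  intro a ha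
  refine ⟨hEP ha, fun i => ?_⟩
  rcases (hA a ha).2.1 i with h | h
  · exact .inl h
  · rcases Y.big_sub hE hEP hm hA i with h' | h'
    · exact .inl (h.trans h')
    · exact .inr (h.trans h')

/-- The part of the Sylow subgroup attached to `m`. -/
def part (m : Perm ι) (hm : ∀ i, m (m i) = i) : Subgroup G := (Y.P : Subgroup G) ⊓ S.hull m hm

theorem part_big {m : Perm ι} (hm : ∀ i, m (m i) = i) (hsub : Sub Y.m m) :
    Big t ι (Y.part m hm) := by
  have hsq : ∀ a ∈ Y.part m hm, a * a = 1 := fun a ha => by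
    have h0 : S.coord m (a * a) = S.coord m 1 := by
      rw [S.coord_mul hm ha.2 ha.2, vec_self, S.coord_one]
    obtain ⟨h1, h2⟩ := S.coord_ext hm (mul_mem ha.2 ha.2) (one_mem (S.hull m hm)) h0
    exact Y.inj (mul_mem ha.1 ha.1) (one_mem _) h1 h2
  have hle : Y.part m hm ≤ centralizer ({t} : Set G) := fun a ha => ha.2.1
  refine ⟨⟨hle, hsq⟩, le_antisymm (S.elem_bound ⟨hle, hsq⟩).1 ?_⟩
  have hsurj : ∀ x, ∃ a : Y.part m hm, S.coord m (a : G) = x := fun x => by
    obtain ⟨a, ha, hax⟩ := S.exists_adm hm x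
    obtain ⟨b, hb, hbv, hbπ⟩ := Y.full (S.v a) (S.π a) fun i => by
      rcases ha.2.1 i with h | h
      · exact .inl h
      · rcases hsub i with h' | h'
        · exact .inl (h.trans h')
        · exact .inr (h.trans h')
    exact ⟨⟨b, hb, Y.le hb, hbπ ▸ ha.2.1, hbv ▸ ha.2.2⟩, (S.coord_eq_of_π hbv hbπ).trans hax⟩
  choose f hf using hsurj
  have := Nat.card_le_card_of_injective f fun x y h => by rw [← hf x, ← hf y, h]
  simpa [Nat.card_eq_fintype_card] using this

/-- The flips in the Sylow subgroup. -/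
def J : Subgroup G := Y.part 1 (fun _ => rfl)

theorem J_big : Big t ι Y.J := Y.part_big _ fun _ => .inl rfl

theorem mem_J {a : G} : a ∈ Y.J ↔ a ∈ Y.P ∧ S.π a = 1 := by
  constructor
  · rintro ⟨h1, h2⟩
    exact ⟨h1, Equiv.ext fun i => (h2.2.1 i).elim id id⟩
  · rintro ⟨h1, h2⟩
    exact ⟨h1, Y.le h1, fun i => .inl (by rw [h2, Perm.one_apply]), fun i => rfl⟩

theorem J_adm {a : G} (ha : a ∈ Y.J) : S.Adm 1 a := ha.2

/-- An element conjugating `D` into the Sylow subgroup normalises `D`. -/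
theorem mapsIn_D {g : G} (h : MapsIn g Y.D Y.P) : MapsIn g Y.D Y.D := by
  have hbig : ∀ E, Big t ι E → E ≤ Y.P → ∀ a ∈ E, g * a * g⁻¹ ∈ Y.D := by
    intro E hE hEP a ha
    obtain ⟨E', hE', hmap, hsurj⟩ := S.big_map hE (g := g) fun x hx => Y.le (h x (Y.big_le_D hE hEP hx))
    refine Y.big_le_D hE' ?_ (hmap a ha)
    intro b hb
    obtain ⟨x, hx, rfl⟩ := hsurj b hb
    exact h x (Y.big_le_D hE hEP hx)
  intro a ha
  obtain ⟨b, hb, hbv, hbπ⟩ := Y.full 0 (S.π a) ha.2
  have hbm : b ∈ Y.part Y.m Y.inv :=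
    ⟨hb, Y.le hb, hbπ ▸ ha.2, hbv ▸ flat_zero _⟩
  have hab : a * b⁻¹ ∈ Y.J := Y.mem_J.2 ⟨mul_mem ha.1 (inv_mem hb), by
    rw [S.π_mul (Y.le ha.1) (inv_mem (Y.le hb)), S.π_inv (Y.le hb), hbπ, mul_inv_cancel]⟩
  have e : g * a * g⁻¹ = (g * (a * b⁻¹) * g⁻¹) * (g * b * g⁻¹) := by group
  rw [e]
  exact mul_mem (hbig _ Y.J_big (fun x hx => hx.1) _ hab)
    (hbig _ (Y.part_big Y.inv fun i => .inr rfl) (fun x hx => hx.1) _ hbm)

theorem roots_commute {x y : G} (hx : x ∈ Y.D) (hy : y ∈ Y.D) (hxt : x * x = t) (hyt : y * y = t) :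
    x * y = y * x := by
  have key : ∀ x, x ∈ Y.D → x * x = t → S.π x = Y.m ∧ ∀ i, S.v x (Y.m i) = S.v x i + 1 := by
    intro x hx hxt
    have h := congrArg S.v hxt
    rw [S.v_mul (Y.le hx.1) (Y.le hx.1), S.v_t] at h
    have h1 : ∀ i, S.π x i = Y.m i := fun i => by
      refine (hx.2 i).resolve_left fun hi => ?_
      have := congrFun h i
      rw [Pi.add_apply, pa_apply, hx.2.symm_apply Y.inv, hi, z2_add, Pi.one_apply] at this
      exact zero_ne_one this
    refine ⟨Equiv.ext h1, fun i => ?_⟩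
    have := congrFun h i
    rw [Pi.add_apply, pa_apply, hx.2.symm_apply Y.inv, h1, Pi.one_apply] at this
    linear_combination this - z2_add (S.v x i) + z2_add (1 : ZMod 2) - z2_add (1 : ZMod 2)
  obtain ⟨hx1, hx2⟩ := key x hx hxt
  obtain ⟨hy1, hy2⟩ := key y hy hyt
  refine Y.inj (mul_mem hx.1 hy.1) (mul_mem hy.1 hx.1) (funext fun i => ?_) ?_
  · rw [S.v_mul (Y.le hx.1) (Y.le hy.1), S.v_mul (Y.le hy.1) (Y.le hx.1), Pi.add_apply, Pi.add_apply,
      pa_apply, pa_apply, hx.2.symm_apply Y.inv, hy.2.symm_apply Y.inv, hx1, hy1, hx2, hy2]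
    abel
  · rw [S.π_mul (Y.le hx.1) (Y.le hy.1), S.π_mul (Y.le hy.1) (Y.le hx.1), hx1, hy1]

/-- `N(D)` centralises `t`. -/
theorem norm_D {g : G} (h : MapsIn g Y.D Y.D) : g ∈ centralizer ({t} : Set G) := by
  classical
  have htD : t ∈ Y.D := ⟨Y.tmem, fun i => .inl (by rw [S.π_t, Perm.one_apply])⟩
  obtain ⟨r0, hr0, hr0v, hr0π⟩ := Y.full (lab Y.m) Y.m (fun i => .inr rfl)
  have hr0D : r0 ∈ Y.D := ⟨hr0, hr0π ▸ fun i => .inr rfl⟩
  have hr0t : r0 * r0 = t := Y.inj (mul_mem hr0 hr0) Y.tmem (funext fun i => by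
      rw [S.v_mul (Y.le hr0) (Y.le hr0), S.v_t, Pi.add_apply, pa_apply, hr0v,
        hr0D.2.symm_apply Y.inv, hr0π, lab_m Y.inv (Y.fpf i), ← add_assoc, z2_add, zero_add,
        Pi.one_apply]) (by
      refine Equiv.ext fun i => ?_
      rw [S.π_mul (Y.le hr0) (Y.le hr0), hr0π, S.π_t, Perm.mul_apply, Y.inv, Perm.one_apply])
  set z := g * t * g⁻¹ with hz
  set r := g * r0 * g⁻¹ with hr
  have hrD : r ∈ Y.D := h _ hr0D
  have hrz : r * r = z := by rw [hr, hz, ← hr0t]; group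
  have hroots : ∀ x y, x ∈ Y.D → y ∈ Y.D → x * x = z → y * y = z → x * y = y * x := by
    intro x y hx hy hxz hyz
    have hg' := h.inv le_rfl
    have := Y.roots_commute (hg' x hx) (hg' y hy)
      (by rw [show g⁻¹ * x * g⁻¹⁻¹ * (g⁻¹ * x * g⁻¹⁻¹) = g⁻¹ * (x * x) * g by group, hxz, hz]; group)
      (by rw [show g⁻¹ * y * g⁻¹⁻¹ * (g⁻¹ * y * g⁻¹⁻¹) = g⁻¹ * (y * y) * g by group, hyz, hz]; group)
    calc x * y = g * (g⁻¹ * x * g⁻¹⁻¹ * (g⁻¹ * y * g⁻¹⁻¹)) * g⁻¹ := by group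
      _ = g * (g⁻¹ * y * g⁻¹⁻¹ * (g⁻¹ * x * g⁻¹⁻¹)) * g⁻¹ := by rw [this]
      _ = y * x := by group
  refine mem_centralizer_singleton_iff.2 ?_
  by_contra hne
  have hzt : z ≠ t := fun e => hne (by
    calc g * t = (g * t * g⁻¹) * g := by group
      _ = t * g := by rw [← hz, e])
  have hzP : z ∈ Y.P := (h t htD).1
  have hrC := Y.le hrD.1
  have hzπ : S.π z = 1 := Equiv.ext fun i => by
    rw [← hrz, S.π_mul hrC hrC, Perm.mul_apply, hrD.2.invol Y.inv, Perm.one_apply]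
  have hzv : ∀ i, S.v z i = S.v r i + S.v r (S.π r i) := fun i => by
    rw [← hrz, S.v_mul hrC hrC, Pi.add_apply, pa_apply, hrD.2.symm_apply Y.inv]
  obtain ⟨i, hi⟩ : ∃ i, S.v z i = 0 := by
    by_contra hc
    push Not at hc
    exact hzt (Y.inj hzP Y.tmem (funext fun i => by
      rw [S.v_t, Pi.one_apply]; exact (z2 _).resolve_left (hc i)) (hzπ.trans S.π_t.symm))
  set j := Y.m i with hj
  have hji : j ≠ i := Y.fpf i
  have hmj : Y.m j = i := Y.inv i
  have hzj : S.v z j = 0 := by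
    rw [hzv] at hi ⊢
    rcases hrD.2 i with k | k
    · have k' : S.π r j = j := (hrD.2 j).resolve_right fun k' => by
        rw [hmj] at k'
        exact hji ((S.π r).injective (k'.trans k.symm))
      rw [k', z2_add]
    · have k' : S.π r j = i := by rw [hj, ← k, hrD.2.invol Y.inv]
      rw [k', add_comm, ← hi, k]
  -- the two modified roots
  let p : Perm ι := S.π r
  have hmem : ∀ x, (Y.m x = i ↔ x = j) ∧ (Y.m x = j ↔ x = i) := fun x =>
    ⟨⟨fun e => by rw [hj, ← e, Y.inv], fun e => e ▸ hmj⟩,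
      ⟨fun e => by rw [← hmj, ← e, Y.inv], fun e => e ▸ rfl⟩⟩
  let f1 : ι → ι := fun x => if x = i then j else if x = j then i else p x
  let f2 : ι → ι := fun x => if x = i ∨ x = j then x else p x
  have hpo : ∀ x, x ≠ i → x ≠ j → p x ≠ i ∧ p x ≠ j := by
    intro x h1 h2
    rcases hrD.2 x with k | k <;> show S.π r x ≠ i ∧ S.π r x ≠ j <;> rw [k]
    · exact ⟨h1, h2⟩
    · exact ⟨fun e => h2 ((hmem x).1.1 e), fun e => h1 ((hmem x).2.1 e)⟩
  have hf1 : Function.Involutive f1 := by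
    intro x
    by_cases h1 : x = i
    · subst h1; simp [f1, hji]
    by_cases h2 : x = j
    · subst h2; simp [f1, h1]
    simp only [f1, if_neg h1, if_neg h2, if_neg (hpo x h1 h2).1, if_neg (hpo x h1 h2).2]
    exact hrD.2.invol Y.inv x
  have hf2 : Function.Involutive f2 := by
    intro x
    by_cases h1 : x = i ∨ x = j
    · simp [f2, h1]
    push Not at h1
    have h3 : ¬ (p x = i ∨ p x = j) := fun k => k.elim (hpo x h1.1 h1.2).1 (hpo x h1.1 h1.2).2
    simp only [f2, if_neg (show ¬ (x = i ∨ x = j) from fun k => k.elim h1.1 h1.2), if_neg h3]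
    exact hrD.2.invol Y.inv x
  let w1 : Vec ι := fun x => if x = i ∨ x = j then 0 else S.v r x
  let w2 : Vec ι := fun x => if x = i then 1 else if x = j then 0 else S.v r x
  obtain ⟨r1, hr1, hr1v, hr1π⟩ := Y.full w1 hf1.toPerm fun x => by
    show f1 x = x ∨ f1 x = Y.m x
    by_cases h1 : x = i
    · subst h1; exact .inr (by simp [f1, hj])
    by_cases h2 : x = j
    · subst h2; exact .inr (by simp [f1, h1, hmj])
    simp only [f1, if_neg h1, if_neg h2]
    exact hrD.2 x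
  obtain ⟨r2, hr2, hr2v, hr2π⟩ := Y.full w2 hf2.toPerm fun x => by
    show f2 x = x ∨ f2 x = Y.m x
    by_cases h1 : x = i ∨ x = j
    · exact .inl (by simp [f2, h1])
    simp only [f2, if_neg h1]
    exact hrD.2 x
  have hs : ∀ {f : ι → ι} (hf : Function.Involutive f) (x : ι), hf.toPerm.symm x = f x := fun hf x => by
    rw [Function.Involutive.toPerm_symm]; rfl
  have hsq1 : r1 * r1 = z := Y.inj (mul_mem hr1 hr1) hzP (funext fun x => by
      rw [S.v_mul (Y.le hr1) (Y.le hr1), Pi.add_apply, pa_apply, hr1π, hr1v, hs]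
      by_cases h1 : x = i
      · subst h1; simp [w1, f1, hi]
      by_cases h2 : x = j
      · subst h2; simp [w1, f1, h1, hzj]
      simp only [w1, f1, if_neg h1, if_neg h2, if_neg (show ¬ (x = i ∨ x = j) from fun k => k.elim h1 h2),
        if_neg (show ¬ (p x = i ∨ p x = j) from fun k => k.elim (hpo x h1 h2).1 (hpo x h1 h2).2)]
      exact (hzv x).symm) (by
      rw [S.π_mul (Y.le hr1) (Y.le hr1), hr1π, hzπ]
      exact Equiv.ext fun x => hf1 x)
  have hsq2 : r2 * r2 = z := Y.inj (mul_mem hr2 hr2) hzP (funext fun x => by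
      rw [S.v_mul (Y.le hr2) (Y.le hr2), Pi.add_apply, pa_apply, hr2π, hr2v, hs]
      by_cases h1 : x = i
      · subst h1; simp [w2, f2, hi, z2_add]
      by_cases h2 : x = j
      · subst h2; simp [w2, f2, h1, hzj]
      simp only [w2, f2, if_neg h1, if_neg h2, if_neg (show ¬ (x = i ∨ x = j) from fun k => k.elim h1 h2),
        if_neg (hpo x h1 h2).1, if_neg (hpo x h1 h2).2]
      exact (hzv x).symm) (by
      rw [S.π_mul (Y.le hr2) (Y.le hr2), hr2π, hzπ]
      exact Equiv.ext fun x => hf2 x)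
  have hc := congrArg (fun a => S.v a i) (hroots r1 r2
    ⟨hr1, hr1π ▸ (fun x => by
      show f1 x = x ∨ f1 x = Y.m x
      by_cases h1 : x = i
      · subst h1; exact .inr (by simp [f1, hj])
      by_cases h2 : x = j
      · subst h2; exact .inr (by simp [f1, h1, hmj])
      simp only [f1, if_neg h1, if_neg h2]
      exact hrD.2 x)⟩
    ⟨hr2, hr2π ▸ (fun x => by
      show f2 x = x ∨ f2 x = Y.m x
      by_cases h1 : x = i ∨ x = j
      · exact .inl (by simp [f2, h1])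
      simp only [f2, if_neg h1]
      exact hrD.2 x)⟩ hsq1 hsq2)
  simp only [S.v_mul (Y.le hr1) (Y.le hr2), S.v_mul (Y.le hr2) (Y.le hr1), Pi.add_apply, pa_apply,
    hr1π, hr2π, hr1v, hr2v, hs] at hc
  simp [w1, w2, f1, f2, hji] at hc

theorem D_norm {E : Subgroup G} (hE : Big t ι E) (hEP : E ≤ Y.P) {d : G} (hd : d ∈ Y.D) :
    MapsIn d E E := by
  obtain ⟨m, hm, hA⟩ := S.exists_m hE
  have hsub := Y.big_sub hE hEP hm hA
  have hcomm : Comm m (S.π d) := by
    intro x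
    rcases hsub x with h | h
    · rw [h]
      rcases hd.2 x with k | k <;> rw [k]
      · exact h.symm
      · rcases hsub (Y.m x) with l | l
        · exact l.symm
        · rw [Y.inv] at l
          exact absurd (m.injective (l.trans h.symm)) (Y.fpf x)
    · rw [h]
      have hmm : m (Y.m x) = x := by rw [← h, hm]
      rcases hd.2 x with k | k
      · rw [k, h]
        refine (hd.2 (Y.m x)).resolve_right fun l => ?_
        rw [Y.inv] at l
        exact Y.fpf x ((S.π d).injective (l.trans k.symm))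
      · rw [k, hmm, ← k, hd.2.invol Y.inv]
  obtain ⟨σ, -, -, hconj⟩ := S.conj_coord hm (Y.le hd.1) hcomm
  intro a ha
  obtain ⟨b, hb, hbe⟩ := S.coord_surj hE hm hA (pa σ (S.coord m a))
  obtain ⟨h1, h2⟩ := S.coord_ext hm (hA b hb) (hconj a (hA a ha)).1 (hbe.trans (hconj a (hA a ha)).2.symm)
  rw [← Y.inj (hEP hb) (mul_mem (mul_mem hd.1 (hEP ha)) (inv_mem hd.1)) h1 h2]
  exact hb

/-- Conjugate maximal elementary abelian subgroups are conjugate in the centraliser. -/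
theorem conj_key {E E' : Subgroup G} (hE : Big t ι E) (hE' : Big t ι E') {g : G}
    (hg : MapsIn g E E') : ∃ c ∈ centralizer ({t} : Set G), MapsIn c E E' := by
  obtain ⟨a, ha, hEa⟩ := S.two_le_conj Y.le hE.toElem.isTwo hE.le
  obtain ⟨b, hb, hEb⟩ := S.two_le_conj Y.le hE'.toElem.isTwo hE'.le
  obtain ⟨F, hF, hFmap, hFs⟩ := S.big_map hE (g := a) fun x hx => Y.le (hEa x hx)
  obtain ⟨F', hF', hFmap', hFs'⟩ := S.big_map hE' (g := b) fun x hx => Y.le (hEb x hx)
  have hFP : F ≤ Y.P := fun y hy => by obtain ⟨x, hx, rfl⟩ := hFs y hy; exact hEa x hx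
  have hFP' : F' ≤ Y.P := fun y hy => by obtain ⟨x, hx, rfl⟩ := hFs' y hy; exact hEb x hx
  set q := b * g * a⁻¹ with hq
  have hqmap : MapsIn q F F' := fun y hy => by
    obtain ⟨x, hx, rfl⟩ := hFs y hy
    rw [show q * (a * x * a⁻¹) * q⁻¹ = b * (g * x * g⁻¹) * b⁻¹ by rw [hq]; group]
    exact hFmap' _ (hg x hx)
  let N : Subgroup G :=
    { carrier := {x | MapsIn x F' F'}
      one_mem' := fun x hx => by simpa using hx
      mul_mem' := fun hx hy => MapsIn.comp hy hx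
      inv_mem' := fun hx => hx.inv le_rfl }
  let DQ := Y.D.map (MulAut.conj q).toMonoidHom
  have hpD : IsPGroup 2 Y.D := Y.P.isPGroup'.to_le fun x hx => hx.1
  have hA : DQ ≤ N := by
    rintro _ ⟨d, hd, rfl⟩
    show MapsIn (q * d * q⁻¹) F' F'
    exact MapsIn.comp (MapsIn.comp (hqmap.inv (by rw [hF.card, hF'.card])) (Y.D_norm hF hFP hd))
      hqmap |> fun h x hx => by
        have := h x hx
        rwa [show q * (d * q⁻¹) = q * d * q⁻¹ by group] at this
  obtain ⟨k, hk, R, -, hR, hDR, hmap⟩ := exists_common (K := N) hA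
    (fun d hd => Y.D_norm hF' hFP' hd) (hpD.map _) hpD
  obtain ⟨P2, hP2⟩ := hR.exists_le_sylow
  obtain ⟨x, hx⟩ := MulAction.exists_smul_eq G P2 Y.P
  have hxR : ∀ y ∈ R, x * y * x⁻¹ ∈ Y.P := fun y hy => by
    rw [← hx]
    exact Subgroup.mem_map.2 ⟨y, hP2 hy, rfl⟩
  have h1 : x ∈ centralizer ({t} : Set G) :=
    Y.norm_D (Y.mapsIn_D fun d hd => hxR d (hDR hd))
  have h2 : x * (k * q) ∈ centralizer ({t} : Set G) := by
    refine Y.norm_D (Y.mapsIn_D fun d hd => ?_)
    rw [show x * (k * q) * d * (x * (k * q))⁻¹ = x * (k * (q * d * q⁻¹) * k⁻¹) * x⁻¹ by group]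
    exact hxR _ (hmap _ (Subgroup.mem_map.2 ⟨d, hd, rfl⟩))
  have h3 : k * q ∈ centralizer ({t} : Set G) := by
    have := mul_mem (inv_mem h1) h2
    rwa [inv_mul_cancel_left] at this
  refine ⟨b⁻¹ * (k * q) * a, mul_mem (mul_mem (inv_mem hb) h3) ha, fun y hy => ?_⟩
  have h4 := hk _ (hqmap _ (hFmap y hy))
  obtain ⟨w, hw, hwe⟩ := hFs' _ h4
  rw [show b⁻¹ * (k * q) * a * y * (b⁻¹ * (k * q) * a)⁻¹ =
    b⁻¹ * (k * (q * (a * y * a⁻¹) * q⁻¹) * k⁻¹) * b by group, ← hwe,
    show b⁻¹ * (b * w * b⁻¹) * b = w by group]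
  exact hw

/-- Conjugates of `t` in a maximal elementary abelian subgroup are reached in its normaliser. -/
theorem exists_norm {E : Subgroup G} (hE : Big t ι E) {g : G} (hz : g * t * g⁻¹ ∈ E) :
    ∃ h, MapsIn h E E ∧ h * t * h⁻¹ = g * t * g⁻¹ := by
  obtain ⟨E', hE', hmap, hs⟩ := S.big_map hE (g := g⁻¹) fun a ha => by
    rw [mem_centralizer_singleton_iff]
    have hc := hE.toElem.comm ha hz
    calc g⁻¹ * a * g⁻¹⁻¹ * t = g⁻¹ * (a * (g * t * g⁻¹)) * g := by group
      _ = g⁻¹ * ((g * t * g⁻¹) * a) * g := by rw [hc]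
      _ = t * (g⁻¹ * a * g⁻¹⁻¹) := by group
  obtain ⟨c, hc, hcmap⟩ := Y.conj_key hE hE' hmap
  refine ⟨g * c, ?_, ?_⟩
  · have hg : MapsIn g E' E := fun b hb => by
      obtain ⟨a, ha, rfl⟩ := hs b hb
      rw [show g * (g⁻¹ * a * g⁻¹⁻¹) * g⁻¹ = a by group]
      exact ha
    exact MapsIn.comp hcmap hg
  · rw [show g * c * t * (g * c)⁻¹ = g * (c * t) * c⁻¹ * g⁻¹ by group,
      mem_centralizer_singleton_iff.1 hc]
    group

theorem flips_conj {E E' : Subgroup G} (hE : Big t ι E) (hE' : Big t ι E')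
    (hfl : ∀ a ∈ E, S.π a = 1) {g : G} (hg : MapsIn g E E') : ∀ a ∈ E', S.π a = 1 := by
  obtain ⟨c, hc, hmap⟩ := Y.conj_key hE hE' hg
  intro b hb
  have := hmap.inv (by rw [hE.card, hE'.card]) b hb
  rw [show b = c * (c⁻¹ * b * c⁻¹⁻¹) * c⁻¹ by group, S.π_conj hc (hE.le this), hfl _ this]
  group

/-- A conjugate of `J` in the Sylow subgroup is `J`. -/
theorem weak {h : G} (hh : MapsIn h Y.J Y.P) : MapsIn h Y.J Y.J := by
  obtain ⟨E', hE', hmap, hs⟩ := S.big_map Y.J_big (g := h) fun a ha => Y.le (hh a ha)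
  intro a ha
  exact Y.mem_J.2 ⟨hh a ha, Y.flips_conj Y.J_big hE' (fun a ha => (Y.mem_J.1 ha).2) hmap _ (hmap a ha)⟩

/-- Fusion in `J` is controlled by its normaliser. -/
theorem fusion {x y : G} (hx : x ∈ Y.J) (hy : y ∈ Y.J) {g : G} (hg : g * x * g⁻¹ = y) :
    ∃ h, MapsIn h Y.J Y.J ∧ h * x * h⁻¹ = y := by
  have hA : Y.J.map (MulAut.conj g).toMonoidHom ≤ centralizer ({y} : Set G) := by
    rintro _ ⟨a, ha, rfl⟩
    rw [mem_centralizer_singleton_iff]
    show g * a * g⁻¹ * y = y * (g * a * g⁻¹)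
    calc g * a * g⁻¹ * y = g * (a * x) * g⁻¹ := by rw [← hg]; group
      _ = g * (x * a) * g⁻¹ := by rw [Y.J_big.toElem.comm ha hx]
      _ = y * (g * a * g⁻¹) := by rw [← hg]; group
  obtain ⟨k, hk, R, -, hR, hJR, hmap⟩ := exists_common hA
    (fun a ha => mem_centralizer_singleton_iff.2 (Y.J_big.toElem.comm ha hy))
    (Y.J_big.toElem.isTwo.map _) Y.J_big.toElem.isTwo
  obtain ⟨P2, hP2⟩ := hR.exists_le_sylow
  obtain ⟨w, hw⟩ := MulAction.exists_smul_eq G P2 Y.P
  have hwR : ∀ a ∈ R, w * a * w⁻¹ ∈ Y.P := fun a ha => by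
    rw [← hw]
    exact Subgroup.mem_map.2 ⟨a, hP2 ha, rfl⟩
  have h1 : MapsIn w Y.J Y.J := Y.weak fun a ha => hwR a (hJR ha)
  have h2 : MapsIn (w * (k * g)) Y.J Y.J := Y.weak fun a ha => by
    rw [show w * (k * g) * a * (w * (k * g))⁻¹ = w * (k * (g * a * g⁻¹) * k⁻¹) * w⁻¹ by group]
    exact hwR _ (hmap _ (Subgroup.mem_map.2 ⟨a, ha, rfl⟩))
  refine ⟨k * g, fun a ha => ?_, ?_⟩
  · have := MapsIn.comp h2 (h1.inv le_rfl) a ha
    rwa [inv_mul_cancel_left] at this
  · rw [show k * g * x * (k * g)⁻¹ = k * (g * x * g⁻¹) * k⁻¹ by group, hg,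
      mem_centralizer_singleton_iff.1 hk, mul_inv_cancel_right]

/-- If `g` normalises `E` and `g⁻¹ t g` is a flip, then `g` preserves the flips in `E`. -/
theorem stab {E : Subgroup G} (hE : Big t ι E) {g : G} (hg : MapsIn g E E) (htE : t ∈ E)
    (hflip : S.π (g⁻¹ * t * g) = 1) {a : G} (ha : a ∈ E) (haflip : S.π a = 1) :
    S.π (g * a * g⁻¹) = 1 := by
  obtain ⟨c, hc, hcP⟩ := S.two_le_conj Y.le hE.toElem.isTwo hE.le
  have hz : g⁻¹ * t * g⁻¹⁻¹ ∈ E := hg.inv le_rfl t htE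
  rw [inv_inv] at hz
  have toJ : ∀ b ∈ E, S.π b = 1 → c * b * c⁻¹ ∈ Y.J := fun b hb hb1 =>
    Y.mem_J.2 ⟨hcP b hb, by rw [S.π_conj hc (hE.le hb), hb1, mul_one, mul_inv_cancel]⟩
  obtain ⟨h, hh, hhz⟩ := Y.exists_norm Y.J_big (g := c * g⁻¹)
    (by rw [show c * g⁻¹ * t * (c * g⁻¹)⁻¹ = c * (g⁻¹ * t * g) * c⁻¹ by group]; exact toJ _ hz hflip)
  set q := g * c⁻¹ * h with hq
  have hqC : q ∈ centralizer ({t} : Set G) := by
    rw [mem_centralizer_singleton_iff]
    have : q * t * q⁻¹ = t := by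
      rw [hq, show g * c⁻¹ * h * t * (g * c⁻¹ * h)⁻¹ = g * c⁻¹ * (h * t * h⁻¹) * c * g⁻¹ by group, hhz]
      group
    calc q * t = (q * t * q⁻¹) * q := by group
      _ = t * q := by rw [this]
  have hmem := hh.inv le_rfl _ (toJ a ha haflip)
  have e : g * a * g⁻¹ = q * (h⁻¹ * (c * a * c⁻¹) * h⁻¹⁻¹) * q⁻¹ := by rw [hq]; group
  rw [e, S.π_conj hqC (Y.le hmem.1), (Y.mem_J.1 hmem).2]
  group

end Syl

end Cfsg.Lib.AltTop
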