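import Cfsg.Agent.AltTopType.Scheme

/-! The classes of involutions of a group of alternating centraliser type. -/

set_option autoImplicit false
set_option linter.unusedSectionVars false
set_option linter.unusedSimpArgs false
set_option linter.style.haveILetI false

namespace Cfsg.Lib.AltTop

open Equiv Subgroup

variable {G : Type*} [Group G] [Finite G] {t : G} {ι : Type*} [Fintype ι] [DecidableEq ι]

namespace Syl

variable {S : Setting t ι} (Y : Syl S)
include Y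

/-- Some conjugate of `t` swaps one pair and is constant off it. -/
theorem exists_pair (ht : t * t = 1) (h2 : ∀ H : Subgroup G, H.Normal → H.index ≠ 2) :
    ∃ b ∈ centralizer ({t} : Set G), IsT t b ∧ ∃ a₀ b₀, a₀ ≠ b₀ ∧ S.π b = swap a₀ b₀ ∧
      ∀ i j, i ≠ a₀ → i ≠ b₀ → j ≠ a₀ → j ≠ b₀ → S.v b i = S.v b j := by
  classical
  obtain ⟨a', ha', haT', haπ'⟩ := Y.exists_swapped ht h2
  have hex : ∃ k, ∃ a ∈ centralizer ({t} : Set G), IsT t a ∧ S.π a ≠ 1 ∧ (S.π a).support.card = k :=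
    ⟨_, a', ha', haT', haπ', rfl⟩
  obtain ⟨a, ha, haT, haπ, hak⟩ := Nat.find_spec hex
  set m := S.π a with hmdef
  have hm := S.π_sq ha (haT.sq ht)
  obtain ⟨E, hE, hA, haE⟩ := S.exists_big_of_invol ha (haT.sq ht)
  set F := Y.frame ht hE hm hA
  have hodd : F.OddW := Y.frame_oddW ht hE hm hA
  have hmin : ∀ u, F.Om u → ¬ Flat m u → ∀ i, m i ≠ i → half m u i = 1 := by
    intro u hu hnf i hi
    obtain ⟨b, hb, hbT, rfl⟩ := (Y.om_iff ht hE hm hA).1 hu
    have hbπ : S.π b ≠ 1 := fun h => hnf ((S.π_eq_one_iff hm (hA b hb)).1 h)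
    have hsub : (S.π b).support ⊆ m.support := fun x hx => by
      rw [Perm.mem_support] at hx ⊢
      intro h
      exact hx (((hA b hb).2.1 x).elim id fun h' => h'.trans h)
    have hge : m.support.card ≤ (S.π b).support.card := by
      rw [hak]
      exact Nat.find_le ⟨b, hE.le hb, hbT, hbπ, rfl⟩
    have hmem : i ∈ (S.π b).support := Finset.eq_of_subset_of_card_le hsub hge ▸ Perm.mem_support.2 hi
    rw [half, S.half_coord hm (hA b hb) i, if_neg (Perm.mem_support.1 hmem)]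
  have hom : F.Om (S.coord m a) := (Y.om_iff ht hE hm hA).2 ⟨a, haE, haT, rfl⟩
  have hnf : ¬ Flat m (S.coord m a) := fun h => haπ ((S.π_eq_one_iff hm (hA a haE)).2 h)
  obtain ⟨a₀, hmoved⟩ : ∃ i, m i ≠ i := by
    by_contra h
    push Not at h
    exact haπ (Equiv.ext h)
  obtain ⟨u, hu, hua, huc⟩ := F.exists_const hodd hmoved
    (fun i hi => F.pairs_eq hodd hmin hom hnf hmoved hi) hom hnf
  obtain ⟨b, hb, hbT, rfl⟩ := (Y.om_iff ht hE hm hA).1 hu
  have hsingle : ∀ i, i ≠ a₀ → i ≠ m a₀ → m i = i := fun i h1 h2 => by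
    by_contra h
    exact (F.pairs_eq hodd hmin hom hnf hmoved h).elim h1 h2
  have hbfix : ∀ i, m i = i → S.π b i = i := fun i hi => ((hA b hb).2.1 i).elim id fun h => h.trans hi
  have hba : S.π b a₀ ≠ a₀ := fun h => by
    have := S.half_coord hm (hA b hb) a₀
    rw [if_pos h] at this
    exact hua (z2_eq _ _ this)
  refine ⟨b, hE.le hb, hbT, a₀, m a₀, hmoved.symm, Equiv.ext fun x => ?_, fun i j h1 h2 h3 h4 => ?_⟩
  · have hpa : S.π b a₀ = m a₀ := ((hA b hb).2.1 a₀).resolve_left hba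
    rcases eq_or_ne x a₀ with rfl | h1
    · rw [swap_apply_left, hpa]
    rcases eq_or_ne x (m a₀) with rfl | h2
    · rw [swap_apply_right, ← hpa, S.adm_inv hm (hA b hb)]
    rw [swap_apply_of_ne_of_ne h1 h2, hbfix x (hsingle x h1 h2)]
  · have hi := hsingle i h1 h2
    have hj := hsingle j h3 h4
    have := huc i j hi hj
    simpa [Setting.coord, hbfix i hi, hbfix j hj] using this

/-- Some flip other than `t` is conjugate to `t`. -/
theorem exists_flip (ht : t * t = 1) (h2 : ∀ H : Subgroup G, H.Normal → H.index ≠ 2) :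
    ∃ a ∈ Y.J, IsT t a ∧ a ≠ t := by
  by_contra hno
  push Not at hno
  have hflips : ∀ a ∈ centralizer ({t} : Set G), IsT t a → S.π a = 1 → a = t := by
    intro a ha haT hπ
    obtain ⟨c, hc, hJ, -⟩ := Y.flip_toJ ha (haT.sq ht) hπ
    have := hno _ hJ (haT.conj c)
    calc a = c⁻¹ * (c * a * c⁻¹) * c := by group
      _ = c⁻¹ * (t * c) := by rw [this, mul_assoc]
      _ = t := by rw [← mem_centralizer_singleton_iff.1 hc, inv_mul_cancel_left]
  obtain ⟨b, hb, hbT, a₀, b₀, hne, hbπ, hbv⟩ := Y.exists_pair ht h2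
  obtain ⟨i⟩ := S.ne
  obtain ⟨u, hu, hux⟩ := S.coord_surj Y.J_big (m := 1) (fun _ => rfl) (fun _ h => Y.J_adm h) (e i)
  rw [S.coord_of_one (Y.mem_J.1 hu).2] at hux
  have := Y.χ_trivial ht h2 (χ := fun g => ∑ x, S.v g x)
    (fun a c ha hc => by
      simp only [S.v_mul ha hc, Pi.add_apply, pa_apply, Finset.sum_add_distrib]
      rw [Equiv.sum_comp (S.π a).symm])
    (fun E hE z hz hzT => ?_) (Y.J_big.le hu) (Y.J_big.sq u hu)
  · simp only [hux] at this
    simp [e, Pi.single_apply] at this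
  · obtain ⟨g, hg, hgπ, hgL⟩ := Y.flatten_elem ht hb hbT hne hbπ hbv hE hz
    have hgz := hflips _ (hE.le (hg z hz)) (hzT.conj g) hgπ
    refine ⟨g⁻¹, by
      conv_lhs => rw [← hgz]
      group, fun w hw => ?_⟩
    rw [inv_inv]
    exact hgL w hw

/-- The count, when some conjugate of `t` is a flip of the top shape. -/
theorem count_aux (ht : t * t = 1) (ht1 : t ≠ 1) (h2 : ∀ H : Subgroup G, H.Normal → H.index ≠ 2) {n : ℕ}
    (hn : Fintype.card ι = 2 * n) {z : G} (hz : z ∈ centralizer ({t} : Set G)) (hzT : IsT t z)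
    (hzπ : S.π z = 1) {k : ι} (hzv : S.v z = 1 + e k) :
    Nat.card {c : ConjClasses G // ∃ x ∈ c.carrier, orderOf x = 2} = n := by
  classical
  haveI : Fact (Nat.Prime 2) := ⟨Nat.prime_two⟩
  have hJA : ∀ a ∈ Y.J, S.Adm 1 a := fun _ h => Y.J_adm h
  let F := Y.frame ht Y.J_big (Y.J_inv) hJA
  have hJc : ∀ a ∈ Y.J, S.coord 1 a = S.v a := fun a ha => S.coord_of_one (Y.mem_J.1 ha).2
  obtain ⟨c, hc, hcJ, hcv⟩ := Y.flip_toJ hz (hzT.sq ht) hzπ
  have hom : F.Om (1 + e (S.π c k)) := (Y.om_iff ht Y.J_big (Y.J_inv) hJA).2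
    ⟨_, hcJ, hzT.conj c, by rw [hJc _ hcJ, hcv, hzv, map_add, pa_one, pa_e]⟩
  have h1 : ∀ u, F.Om u → u = 1 ∨ ∃ i, u = 1 + e i := fun u hu => F.shape (fun _ => rfl) hom hu
  have hall : ∀ i, F.Om (1 + e i) := fun i => by
    have h := F.om_pa (σ := swap (S.π c k) i) (fun _ => rfl) hom
    rwa [map_add, pa_one, pa_e, swap_apply_left] at h
  obtain ⟨b, hb, hbT, a₀, b₀, hne, hbπ, hbv⟩ := Y.exists_pair ht h2
  have hred : ∀ x : G, orderOf x = 2 → ∃ g, g * x * g⁻¹ ∈ Y.J := by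
    intro x hx
    have hx2 : x * x = 1 := by rw [← pow_two, ← hx, pow_orderOf_eq_one]
    obtain ⟨w, hw⟩ := exists_into_sylow Y.P (isPGroup_zpowers hx2)
    set y := w * x * w⁻¹ with hy
    have hyP : y ∈ Y.P := hw x (mem_zpowers x)
    have hy2 : y * y = 1 := by
      rw [hy, show w * x * w⁻¹ * (w * x * w⁻¹) = w * (x * x) * w⁻¹ by group, hx2, mul_one, mul_inv_cancel]
    obtain ⟨E, hE, -, hyE⟩ := S.exists_big_of_invol (Y.le hyP) hy2
    obtain ⟨g, hg, hgπ, -⟩ := Y.flatten_elem ht hb hbT hne hbπ hbv hE hyE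
    obtain ⟨d, hd, hdJ, -⟩ := Y.flip_toJ (hE.le (hg y hyE)) (hE.sq _ (hg y hyE)) hgπ
    exact ⟨d * g * w, by rwa [show d * g * w * x * (d * g * w)⁻¹ = d * (g * y * g⁻¹) * d⁻¹ by rw [hy]; group]⟩
  have hrep : ∀ j : Fin n, ∃ a ∈ Y.J, orderOf a = 2 ∧ kap (S.v a) = (j : ℕ) + 1 := by
    intro j
    obtain ⟨v, hv⟩ := exists_kap (ι := ι) (k := (j : ℕ) + 1) (by have := j.2; omega)
    obtain ⟨a, ha, hax⟩ := S.coord_surj Y.J_big (Y.J_inv) hJA v
    rw [hJc a ha] at hax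
    refine ⟨a, ha, orderOf_eq_prime (by rw [pow_two, Y.J_big.sq a ha]) fun h => ?_, by rw [hax, hv]⟩
    rw [h, S.v_one] at hax
    rw [← hax] at hv
    simp [kap, wt] at hv
  choose rep hrepJ hrep2 hrepk using hrep
  refine (Nat.card_eq_of_bijective (fun j : Fin n => (⟨ConjClasses.mk (rep j), rep j,
    ConjClasses.mem_carrier_mk, hrep2 j⟩ : {c : ConjClasses G // ∃ x ∈ c.carrier, orderOf x = 2}))
    ⟨fun j j' h => ?_, fun q => ?_⟩).symm.trans (Nat.card_fin n)
  · obtain ⟨g, hg⟩ := isConj_iff.1 (ConjClasses.mk_eq_mk_iff_isConj.1 (congrArg Subtype.val h))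
    obtain ⟨h', hh', hhx⟩ := Y.fusion (hrepJ j) (hrepJ j') hg
    obtain ⟨f, hf⟩ := S.exists_real (Y.J_inv) Y.J_big hJA hh'
    have := F.kap_map (fun _ => rfl) h1 hall (f := f) ⟨h', hh', hf⟩ (S.v (rep j))
    rw [← hJc _ (hrepJ j), ← hf _ (hrepJ j), hhx, hJc _ (hrepJ j'), hJc _ (hrepJ j), hrepk, hrepk] at this
    exact Fin.ext (by omega)
  · obtain ⟨q, x, hxq, hx⟩ := q
    obtain ⟨g, hg⟩ := hred x hx
    set y := g * x * g⁻¹ with hy
    have hy1 : y ≠ 1 := fun h => by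
      rw [hy, mul_inv_eq_one, mul_eq_left] at h
      rw [h, orderOf_one] at hx
      exact absurd hx (by norm_num)
    have hv0 : S.v y ≠ 0 := fun h => hy1 (Y.inj (Y.mem_J.1 hg).1 (one_mem _) (h.trans S.v_one.symm)
      ((Y.mem_J.1 hg).2.trans S.π_one.symm))
    have hk1 := kap_pos hv0
    have hk2 := kap_le (S.v y)
    rw [hn] at hk2
    refine ⟨⟨kap (S.v y) - 1, by omega⟩, Subtype.ext ?_⟩
    show ConjClasses.mk (rep _) = q
    set j : Fin n := ⟨kap (S.v y) - 1, by omega⟩ with hj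
    have hjk : kap (S.v (rep j)) = kap (S.v y) := by rw [hrepk]; simp only [hj]; omega
    obtain ⟨f, ⟨h', hh', hf⟩, hfv⟩ := F.kap_trans (fun _ => rfl) h1 hall hjk
    have heq : h' * rep j * h'⁻¹ = y := S.coord_inj Y.J_big.toElem (Y.J_inv) hJA (hh' _ (hrepJ j)) hg (by
      rw [hf _ (hrepJ j), hJc _ (hrepJ j), hfv, hJc _ hg])
    rw [← ConjClasses.mem_carrier_iff_mk_eq.1 hxq, ConjClasses.mk_eq_mk_iff_isConj, isConj_iff]
    refine ⟨g⁻¹ * h', ?_⟩
    rw [show g⁻¹ * h' * rep j * (g⁻¹ * h')⁻¹ = g⁻¹ * (h' * rep j * h'⁻¹) * g by group, heq, hy]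
    group

end Syl

namespace Setting

/-- The twist by the sum of the coordinates. -/
def twist (S : Setting t ι) : Setting t ι where
  v a := S.v a + fun _ => ∑ x, S.v a x
  π := S.π
  π_mul := S.π_mul
  v_mul := fun {a b} ha hb => by
    funext i
    simp only [Pi.add_apply, pa_apply, S.v_mul ha hb, Finset.sum_add_distrib]
    rw [Equiv.sum_comp (S.π a).symm]
    abel
  surj := fun w p => by
    obtain ⟨a, ha, hv, hπ⟩ := S.surj (w + fun _ => ∑ x, w x) p
    refine ⟨a, ha, funext fun i => ?_, hπ⟩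
    obtain ⟨k, hk⟩ := S.ev
    simp [hv, Finset.sum_add_distrib, hk, z2_add, add_assoc]
  ker_odd := fun {a} ha hv hπ => by
    refine S.ker_odd ha ?_ hπ
    have hsum : ∑ x, S.v a x = 0 := by
      obtain ⟨k, hk⟩ := S.ev
      have := congrArg (fun w : Vec ι => ∑ x, w x) hv
      simpa [Finset.sum_add_distrib, hk, z2_add] using this
    funext i
    have := congrFun hv i
    simpa [hsum] using this
  v_t := by
    obtain ⟨k, hk⟩ := S.ev
    funext i
    simp [S.v_t, hk, z2_add]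
  π_t := S.π_t
  ev := S.ev
  ne := S.ne

end Setting

/-- The count. -/
theorem count_classes (S : Setting t ι) (ht : t * t = 1) (ht1 : t ≠ 1)
    (h2 : ∀ H : Subgroup G, H.Normal → H.index ≠ 2) (P : Sylow 2 G)
    (hP : (P : Subgroup G) ≤ centralizer ({t} : Set G)) {n : ℕ} (hn : Fintype.card ι = 2 * n) :
    Nat.card {c : ConjClasses G // ∃ x ∈ c.carrier, orderOf x = 2} = n := by
  obtain ⟨Y⟩ := exists_syl S ht P hP
  obtain ⟨a, haJ, haT, hne⟩ := Y.exists_flip ht h2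
  have hπ := (Y.mem_J.1 haJ).2
  rcases Y.flip_shape ht (Y.J_big.le haJ) haT hπ with h | ⟨k, h | h⟩
  · exact absurd (Y.inj (Y.mem_J.1 haJ).1 Y.tmem (h.trans S.v_t.symm) (hπ.trans S.π_t.symm)) hne
  · obtain ⟨Y'⟩ := exists_syl S.twist ht P hP
    refine Y'.count_aux ht ht1 h2 hn (Y.J_big.le haJ) haT hπ (k := k) ?_
    funext i
    simp [Setting.twist, h, e, Pi.single_apply, add_comm]
  · exact Y.count_aux ht ht1 h2 hn (Y.J_big.le haJ) haT hπ h

end Cfsg.Lib.AltTop
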