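import Cfsg.Agent.AltTopType.Automiser
import Cfsg.Agent.Transfer.ThompsonTransfer

/-! Invariant homomorphisms on the centraliser and transfer. -/

set_option autoImplicit false
set_option linter.unusedSectionVars false
set_option linter.unusedSimpArgs false
set_option linter.style.haveILetI false

namespace Cfsg.Lib.AltTop

open Equiv Subgroup
open scoped Pointwise

variable {G : Type*} [Group G] [Finite G] {t : G} {ι : Type*} [Fintype ι] [DecidableEq ι]

theorem exists_into_sylow (P : Sylow 2 G) {R : Subgroup G} (hR : IsPGroup 2 R) :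
    ∃ w : G, ∀ a ∈ R, w * a * w⁻¹ ∈ P := by
  haveI : Fact (Nat.Prime 2) := ⟨Nat.prime_two⟩
  obtain ⟨P2, hP2⟩ := hR.exists_le_sylow
  obtain ⟨w, hw⟩ := MulAction.exists_smul_eq G P2 P
  exact ⟨w, fun a ha => hw ▸ Subgroup.mem_map.2 ⟨a, hP2 ha, rfl⟩⟩

theorem isPGroup_zpowers {a : G} (h : a * a = 1) : IsPGroup 2 (zpowers a) := by
  obtain ⟨k, -, hk⟩ := (Nat.dvd_prime_pow Nat.prime_two).1
    (orderOf_dvd_of_pow_eq_one (show a ^ 2 ^ 1 = 1 by simpa [pow_two] using h))
  exact IsPGroup.of_card (n := k) (by rw [Nat.card_zpowers, hk])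

namespace Syl

variable {S : Setting t ι} (Y : Syl S)
include Y

theorem mem_cent_of_comm {g w : G} (h : Commute w (g * t * g⁻¹)) :
    g⁻¹ * w * g ∈ centralizer ({t} : Set G) := by
  rw [mem_centralizer_singleton_iff]
  calc g⁻¹ * w * g * t = g⁻¹ * (w * (g * t * g⁻¹)) * g := by group
    _ = g⁻¹ * ((g * t * g⁻¹) * w) * g := by rw [h.eq]
    _ = t * (g⁻¹ * w * g) := by group

theorem χ_conj {χ : G → ZMod 2}
    (hmul : ∀ a b, a ∈ centralizer ({t} : Set G) → b ∈ centralizer ({t} : Set G) → χ (a * b) = χ a + χ b)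
    {c x : G} (hc : c ∈ centralizer ({t} : Set G)) (hx : x ∈ centralizer ({t} : Set G)) :
    χ (c * x * c⁻¹) = χ x := by
  have h1 : χ 1 = 0 := by
    have h := hmul 1 1 (one_mem _) (one_mem _)
    rw [one_mul] at h
    exact left_eq_add.1 h
  have h2 := hmul c c⁻¹ hc (inv_mem hc)
  rw [mul_inv_cancel, h1] at h2
  rw [hmul _ _ (mul_mem hc hx) (inv_mem hc), hmul _ _ hc hx, add_right_comm, ← h2, zero_add]

/-- A homomorphism respecting the conjugates of `t` in every elementary subgroup vanishes on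
involutions when there is no normal subgroup of index two. -/
theorem χ_trivial (ht : t * t = 1) (h2 : ∀ H : Subgroup G, H.Normal → H.index ≠ 2) {χ : G → ZMod 2}
    (hmul : ∀ a b, a ∈ centralizer ({t} : Set G) → b ∈ centralizer ({t} : Set G) → χ (a * b) = χ a + χ b)
    (hE : ∀ E, Big t ι E → ∀ z ∈ E, IsT t z → ∃ g, g * t * g⁻¹ = z ∧ ∀ w ∈ E, χ (g⁻¹ * w * g) = χ w)
    {u : G} (hu : u ∈ centralizer ({t} : Set G)) (hu2 : u * u = 1) : χ u = 0 := by
  classical
  haveI : Fact (Nat.Prime 2) := ⟨Nat.prime_two⟩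
  have hE' : ∀ E, Big t ι E → ∀ c, c * t * c⁻¹ ∈ E → ∀ w ∈ E, χ (c⁻¹ * w * c) = χ w := by
    intro E hEb c hc w hw
    obtain ⟨g, hg, hgw⟩ := hE E hEb _ hc ⟨c, rfl⟩
    have hd : g⁻¹ * c ∈ centralizer ({t} : Set G) := by
      rw [mem_centralizer_singleton_iff]
      calc g⁻¹ * c * t = g⁻¹ * (c * t * c⁻¹) * c := by group
        _ = g⁻¹ * (g * t * g⁻¹) * c := by rw [hg]
        _ = t * (g⁻¹ * c) := by group
    have hwC : g⁻¹ * w * g ∈ centralizer ({t} : Set G) :=
      Y.mem_cent_of_comm (hg ▸ hEb.toElem.comm hw hc)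
    rw [show c⁻¹ * w * c = (g⁻¹ * c)⁻¹ * (g⁻¹ * w * g) * (g⁻¹ * c)⁻¹⁻¹ by group,
      Y.χ_conj hmul (inv_mem hd) hwC, hgw w hw]
  have hinv : ∀ x y g, x ∈ centralizer ({t} : Set G) → y ∈ centralizer ({t} : Set G) → x * x = 1 →
      g * x * g⁻¹ = y → χ x = χ y := by
    intro x y g hx hy hx2 hgy
    have hy2 : y * y = 1 := by
      rw [← hgy, show g * x * g⁻¹ * (g * x * g⁻¹) = g * (x * x) * g⁻¹ by group, hx2, mul_one, mul_inv_cancel]
    obtain ⟨E, hEb, -, hxE⟩ := S.exists_big_of_invol hx hx2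
    obtain ⟨E', hEb', -, hyE⟩ := S.exists_big_of_invol hy hy2
    have hA : E.map (MulAut.conj g).toMonoidHom ≤ centralizer ({y} : Set G) := by
      rintro _ ⟨a, ha, rfl⟩
      rw [mem_centralizer_singleton_iff]
      show g * a * g⁻¹ * y = y * (g * a * g⁻¹)
      calc g * a * g⁻¹ * y = g * (a * x) * g⁻¹ := by rw [← hgy]; group
        _ = g * (x * a) * g⁻¹ := by rw [hEb.toElem.comm ha hxE]
        _ = y * (g * a * g⁻¹) := by rw [← hgy]; group
    obtain ⟨k, hk, R, -, hR, hER, hmap⟩ := exists_common hA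
      (fun a ha => mem_centralizer_singleton_iff.2 (hEb'.toElem.comm ha hyE))
      (hEb.toElem.isTwo.map _) hEb'.toElem.isTwo
    obtain ⟨w, hw⟩ := exists_into_sylow Y.P hR
    have pull : ∀ (F : Subgroup G), Big t ι F → ∀ c : G, MapsIn c F Y.P → c⁻¹ * t * c⁻¹⁻¹ ∈ F := by
      intro F hF c hc
      obtain ⟨F', hF', -, hs⟩ := S.big_map hF (g := c) fun a ha => Y.le (hc a ha)
      obtain ⟨m, hm, hA'⟩ := S.exists_m hF'
      obtain ⟨a, ha, hat⟩ := hs t (S.t_mem_big hF' hm hA' ht)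
      rw [← hat, show c⁻¹ * (c * a * c⁻¹) * c⁻¹⁻¹ = a by group]
      exact ha
    have h1 := hE' E' hEb' _ (pull E' hEb' w fun a ha => hw a (hER ha)) y hyE
    have hmapE : MapsIn (w * (k * g)) E Y.P := fun a ha => by
      rw [show w * (k * g) * a * (w * (k * g))⁻¹ = w * (k * (g * a * g⁻¹) * k⁻¹) * w⁻¹ by group]
      exact hw _ (hmap _ (Subgroup.mem_map.2 ⟨a, ha, rfl⟩))
    have h2 := hE' E hEb _ (pull E hEb _ hmapE) x hxE
    rw [← h1, ← h2]
    congr 1
    rw [inv_inv, inv_inv, show w * (k * g) * x * (w * (k * g))⁻¹ = w * (k * (g * x * g⁻¹) * k⁻¹) * w⁻¹ by group,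
      hgy, mem_centralizer_singleton_iff.1 hk, mul_inv_cancel_right]
  refine (z2 _).resolve_right fun hu1 => ?_
  obtain ⟨c, hc, hcmap⟩ := S.two_le_conj Y.le (isPGroup_zpowers hu2) (zpowers_le.2 hu)
  set x := c * u * c⁻¹ with hxdef
  have hxP : x ∈ Y.P := hcmap u (mem_zpowers u)
  have hxC := Y.le hxP
  have hx1 : χ x = 1 := by rw [hxdef, Y.χ_conj hmul hc hu, hu1]
  have hx2 : x * x = 1 := by
    rw [hxdef, show c * u * c⁻¹ * (c * u * c⁻¹) = c * (u * u) * c⁻¹ by group, hu2, mul_one, mul_inv_cancel]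
  have h0 : χ 1 = 0 := by
    have h := hmul 1 1 (one_mem _) (one_mem _)
    rw [one_mul] at h
    exact left_eq_add.1 h
  have hxne : x ≠ 1 := fun h => by rw [h, h0] at hx1; exact zero_ne_one hx1
  let Q : Subgroup G :=
    { carrier := {a | a ∈ Y.P ∧ χ a = 0}
      one_mem' := ⟨one_mem _, h0⟩
      mul_mem' := fun {a b} ha hb => ⟨mul_mem ha.1 hb.1, by
        rw [hmul _ _ (Y.le ha.1) (Y.le hb.1), ha.2, hb.2, add_zero]⟩
      inv_mem' := fun {a} ha => ⟨inv_mem ha.1, by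
        have h := hmul _ _ (Y.le ha.1) (inv_mem (Y.le ha.1))
        rw [mul_inv_cancel, h0, ha.2, zero_add] at h
        exact h.symm⟩ }
  have hrel : Q.relIndex (Y.P : Subgroup G) = 2 := by
    rw [Subgroup.relIndex, Subgroup.index_eq_two_iff]
    refine ⟨⟨x, hxP⟩, fun b => ?_⟩
    have hb := hmul _ _ (Y.le b.2) hxC
    rw [hx1] at hb
    simp only [Subgroup.mem_subgroupOf, Subgroup.coe_mul]
    rcases z2 (χ (b : G)) with h | h
    · exact Or.inr ⟨⟨b.2, h⟩, fun h' => by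
        have := h'.2; rw [hb, h, zero_add] at this; exact one_ne_zero this⟩
    · exact Or.inl ⟨⟨mul_mem b.2 hxP, by rw [hb, h]; exact z2_add 1⟩, fun h' => by
        have := h'.2; rw [h] at this; exact one_ne_zero this⟩
  have hidx := Subgroup.relIndex_mul_index (H := Q) (K := (Y.P : Subgroup G)) fun a ha => ha.1
  rw [hrel] at hidx
  obtain ⟨M, hMn, hMi, -⟩ := Cfsg.Lib.Transfer.exists_index_two_not_mem Q
    (Nat.odd_iff.2 (by have := Y.P.not_dvd_index; omega)) hidx.symm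
    (orderOf_eq_prime (by rw [pow_two, hx2]) hxne) fun g hg => by
      have := hinv x _ g⁻¹ hxC (Y.le hg.1) hx2 (by rw [inv_inv])
      rw [hg.2, hx1] at this
      exact one_ne_zero this
  exact h2 M hMn hMi

end Syl

/-! Signs. -/

/-- The sign in the field of two elements. -/
def sgn2 (p : Perm ι) : ZMod 2 := if Perm.sign p = 1 then 0 else 1

theorem sgn2_mul (p q : Perm ι) : sgn2 (p * q) = sgn2 p + sgn2 q := by
  rcases Int.units_eq_one_or (Perm.sign p) with h | h <;>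
    rcases Int.units_eq_one_or (Perm.sign q) with k | k <;> simp [sgn2, h, k] <;> decide

theorem invol_cycleType {p : Perm ι} (hp : ∀ i, p (p i) = i) :
    p.cycleType = Multiset.replicate (Multiset.card p.cycleType) 2 ∧
      2 * Multiset.card p.cycleType = p.support.card := by
  have h2 : ∀ n ∈ p.cycleType, n = 2 := by
    intro n hn
    have h1 := Perm.two_le_of_mem_cycleType hn
    have h3 : n ∣ 2 := (Perm.dvd_of_mem_cycleType hn).trans
      (orderOf_dvd_of_pow_eq_one (Equiv.ext fun i => by simp [pow_two, hp]))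
    have := Nat.le_of_dvd two_pos h3
    omega
  have hrep := Multiset.eq_replicate_card.2 h2
  refine ⟨hrep, ?_⟩
  rw [← p.sum_cycleType]
  conv_rhs => rw [hrep]
  rw [Multiset.sum_replicate, smul_eq_mul, mul_comm]

theorem sgn2_eq_of_support {p q : Perm ι} (hp : ∀ i, p (p i) = i) (hq : ∀ i, q (q i) = i)
    (h : p.support.card = q.support.card) : sgn2 p = sgn2 q := by
  obtain ⟨a, a'⟩ := invol_cycleType hp
  obtain ⟨b, b'⟩ := invol_cycleType hq
  have hc : p.cycleType = q.cycleType := by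
    rw [a, b, show Multiset.card p.cycleType = Multiset.card q.cycleType by omega]
  rw [sgn2, sgn2, Perm.sign_of_cycleType, Perm.sign_of_cycleType, hc]

/-- The lower points of the orbits of an involution. -/
noncomputable def lows (p : Perm ι) : Finset ι :=
  Finset.univ.filter fun i => (Fintype.equivFin ι i : ℕ) ≤ (Fintype.equivFin ι (p i) : ℕ)

theorem two_mul_lows {p : Perm ι} (hp : ∀ i, p (p i) = i) :
    2 * (lows p).card + p.support.card = 2 * Fintype.card ι := by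
  classical
  set N : ι → ℕ := fun i => Fintype.equivFin ι i with hN
  have hinj : ∀ {i j}, N i = N j → i = j := fun {i j} h => (Fintype.equivFin ι).injective (Fin.ext h)
  set A := p.support.filter fun i => N i < N (p i) with hA
  set B := p.support.filter fun i => ¬ N i < N (p i) with hB
  have hAB : A.card + B.card = p.support.card := Finset.card_filter_add_card_filter_not _
  have hcard : A.card = B.card := by
    refine Finset.card_nbij' p p ?_ ?_ (fun i _ => hp i) (fun i _ => hp i)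
    · intro i hi
      simp only [hA, hB, Finset.coe_filter, Perm.mem_support, Set.mem_setOf_eq] at hi ⊢
      exact ⟨by rw [hp]; exact Ne.symm hi.1, by rw [hp]; omega⟩
    · intro i hi
      simp only [hA, hB, Finset.coe_filter, Perm.mem_support, Set.mem_setOf_eq] at hi ⊢
      have : N (p i) ≠ N i := fun h => hi.1 (hinj h)
      exact ⟨by rw [hp]; exact Ne.symm hi.1, by rw [hp]; omega⟩
  have hl : lows p = Finset.univ \ B := by
    ext i
    simp only [lows, hB, Finset.mem_filter, Finset.mem_univ, true_and, Finset.mem_sdiff, Perm.mem_support]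
    constructor
    · rintro h ⟨h1, h2⟩
      exact h1 (hinj (show N (p i) = N i by simp only [hN] at *; omega))
    · intro h
      by_cases h1 : p i = i
      · rw [h1]
      · by_contra h2
        exact h ⟨h1, by simp only [hN]; omega⟩
  rw [hl, Finset.card_sdiff_of_subset (Finset.subset_univ _), Finset.card_univ]
  have := Finset.card_le_univ B
  omega

theorem card_fixed {p : Perm ι} (hp : ∀ i, p (p i) = i) :
    Nat.card {w : Vec ι // pa p w = w} = 2 ^ (lows p).card := by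
  classical
  have hsymm : ∀ i, p.symm i = p i := fun i => by rw [symm_apply_eq, hp]
  have hlow : ∀ i, i ∉ lows p → p i ∈ lows p := by
    intro i hi
    simp only [lows, Finset.mem_filter, Finset.mem_univ, true_and, hp] at hi ⊢
    omega
  have hfix : ∀ f : {i // i ∈ lows p} → ZMod 2,
      pa p (fun i => if h : i ∈ lows p then f ⟨i, h⟩ else f ⟨p i, hlow i h⟩) =
        fun i => if h : i ∈ lows p then f ⟨i, h⟩ else f ⟨p i, hlow i h⟩ := by
    intro f
    funext i
    rw [pa_apply, hsymm]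
    by_cases h : i ∈ lows p
    · by_cases h' : p i ∈ lows p
      · have : p i = i := by
          simp only [lows, Finset.mem_filter, Finset.mem_univ, true_and, hp] at h h'
          exact (Fintype.equivFin ι).injective (Fin.ext (le_antisymm h' h))
        simp only [this]
      · simp [h, h', hp]
    · simp [h, hlow i h]
  refine (Nat.card_congr (β := {i // i ∈ lows p} → ZMod 2)
    { toFun := fun w i => w.1 i.1
      invFun := fun f => ⟨_, hfix f⟩
      left_inv := fun w => ?_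
      right_inv := fun f => ?_ }).trans (by simp [Nat.card_eq_fintype_card])
  · refine Subtype.ext (funext fun i => ?_)
    by_cases h : i ∈ lows p
    · simp [h]
    · have := congrFun w.2 i
      rw [pa_apply, hsymm] at this
      simp [h, this]
  · funext i
    simp [i.2]

namespace Syl

variable {S : Setting t ι} (Y : Syl S)
include Y

/-- Conjugation by an element of the Sylow subgroup on `J`. -/
theorem v_conj_J {w a : G} (hw : w ∈ centralizer ({t} : Set G)) (ha : a ∈ Y.J) :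
    S.v (w * a * w⁻¹) = pa (S.π w) (S.v a) := by
  rw [S.v_conj hw (Y.le (Y.mem_J.1 ha).1), (Y.mem_J.1 ha).2, mul_one, mul_inv_cancel]
  show S.v w + pa (S.π w) (S.v a) + S.v w = _
  rw [add_comm (S.v w), add_assoc, vec_self, add_zero]

theorem fixed_count {w : G} (hw : w ∈ centralizer ({t} : Set G)) (hw2 : w * w = 1)
    (hnorm : MapsIn w Y.J Y.J) :
    Nat.card {a : Y.J // w * (a : G) * w⁻¹ = a} = 2 ^ (lows (S.π w)).card := by
  rw [← card_fixed (S.π_sq hw hw2)]
  refine Nat.card_eq_of_bijective (fun a => ⟨S.v (a.1 : G), ?_⟩) ⟨fun a b h => ?_, fun x => ?_⟩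
  · rw [← Y.v_conj_J hw a.1.2, a.2]
  · exact Subtype.ext (Subtype.ext (Y.inj (Y.mem_J.1 a.1.2).1 (Y.mem_J.1 b.1.2).1
      (congrArg Subtype.val h) ((Y.mem_J.1 a.1.2).2.trans (Y.mem_J.1 b.1.2).2.symm)))
  · obtain ⟨a, ha, hav⟩ := S.coord_surj Y.J_big (m := 1) (fun _ => rfl) (fun _ h => Y.J_adm h) x.1
    rw [S.coord_of_one (Y.mem_J.1 ha).2] at hav
    refine ⟨⟨⟨a, ha⟩, Y.inj (Y.mem_J.1 (hnorm a ha)).1 (Y.mem_J.1 ha).1 ?_
      ((Y.mem_J.1 (hnorm a ha)).2.trans (Y.mem_J.1 ha).2.symm)⟩, Subtype.ext hav⟩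
    rw [Y.v_conj_J hw ha, hav, x.2]

theorem sgn_step (ht : t * t = 1) (hflip : ∀ a ∈ centralizer ({t} : Set G), IsT t a → S.π a = 1)
    {E : Subgroup G} (hE : Big t ι E) {z : G} (hz : z ∈ E) (hzT : IsT t z) :
    ∃ g, g * t * g⁻¹ = z ∧ ∀ w ∈ E, sgn2 (S.π (g⁻¹ * w * g)) = sgn2 (S.π w) := by
  obtain ⟨c, hc, hcP⟩ := S.two_le_conj Y.le hE.toElem.isTwo hE.le
  have hzJ : c * z * c⁻¹ ∈ Y.J := Y.mem_J.2 ⟨hcP z hz, by
    rw [S.π_conj hc (hE.le hz), hflip z (hE.le hz) hzT, mul_one, mul_inv_cancel]⟩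
  obtain ⟨g0, rfl⟩ := hzT
  obtain ⟨h, hh, hht⟩ := Y.exists_norm Y.J_big (g := c * g0)
    (by rw [show c * g0 * t * (c * g0)⁻¹ = c * (g0 * t * g0⁻¹) * c⁻¹ by group]; exact hzJ)
  refine ⟨c⁻¹ * h, by rw [show c⁻¹ * h * t * (c⁻¹ * h)⁻¹ = c⁻¹ * (h * t * h⁻¹) * c by group, hht]; group,
    fun w hw => ?_⟩
  set w1 := c * w * c⁻¹ with hw1
  have hw1P : w1 ∈ Y.P := hcP w hw
  have hw1sq : w1 * w1 = 1 := by
    rw [hw1, show c * w * c⁻¹ * (c * w * c⁻¹) = c * (w * w) * c⁻¹ by group, hE.sq w hw, mul_one, mul_inv_cancel]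
  set w2 := h⁻¹ * w1 * h with hw2def
  have hw2e : (c⁻¹ * h)⁻¹ * w * (c⁻¹ * h) = w2 := by rw [hw2def, hw1]; group
  rw [hw2e]
  have hw2C : w2 ∈ centralizer ({t} : Set G) := by
    refine Y.mem_cent_of_comm ?_
    rw [hht, hw1]
    show _ = _
    have := hE.toElem.comm hw hz
    calc c * w * c⁻¹ * (c * g0 * t * (c * g0)⁻¹) = c * (w * (g0 * t * g0⁻¹)) * c⁻¹ := by group
      _ = c * ((g0 * t * g0⁻¹) * w) * c⁻¹ := by rw [this]
      _ = c * g0 * t * (c * g0)⁻¹ * (c * w * c⁻¹) := by group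
  have hw2sq : w2 * w2 = 1 := by
    rw [hw2def, show h⁻¹ * w1 * h * (h⁻¹ * w1 * h) = h⁻¹ * (w1 * w1) * h by group, hw1sq, mul_one, inv_mul_cancel]
  have hn1 : MapsIn w1 Y.J Y.J := fun a ha => Y.mem_J.2 ⟨mul_mem (mul_mem hw1P (Y.mem_J.1 ha).1) (inv_mem hw1P), by
    rw [S.π_conj (Y.le hw1P) (Y.le (Y.mem_J.1 ha).1), (Y.mem_J.1 ha).2, mul_one, mul_inv_cancel]⟩
  have hh' := hh.inv le_rfl
  have hn2 : MapsIn w2 Y.J Y.J := by
    have := (hh.comp hn1).comp hh'
    rwa [← mul_assoc] at this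
  have hcount : Nat.card {a : Y.J // w2 * (a : G) * w2⁻¹ = a} =
      Nat.card {a : Y.J // w1 * (a : G) * w1⁻¹ = a} := by
    refine Nat.card_congr (Equiv.subtypeEquiv
      { toFun := fun a => ⟨h * a * h⁻¹, hh a a.2⟩
        invFun := fun a => ⟨h⁻¹ * a * h⁻¹⁻¹, hh' a a.2⟩
        left_inv := fun a => Subtype.ext (show h⁻¹ * (h * (a : G) * h⁻¹) * h⁻¹⁻¹ = a by group)
        right_inv := fun a => Subtype.ext (show h * (h⁻¹ * (a : G) * h⁻¹⁻¹) * h⁻¹ = a by group) }
      fun a => ?_)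
    show h⁻¹ * w1 * h * a * (h⁻¹ * w1 * h)⁻¹ = a ↔ w1 * (h * a * h⁻¹) * w1⁻¹ = h * a * h⁻¹
    constructor
    · intro e
      calc w1 * (h * a * h⁻¹) * w1⁻¹ = h * (h⁻¹ * w1 * h * a * (h⁻¹ * w1 * h)⁻¹) * h⁻¹ := by group
        _ = h * a * h⁻¹ := by rw [e]
    · intro e
      calc h⁻¹ * w1 * h * a * (h⁻¹ * w1 * h)⁻¹ = h⁻¹ * (w1 * (h * a * h⁻¹) * w1⁻¹) * h := by group
        _ = h⁻¹ * (h * a * h⁻¹) * h := by rw [e]
        _ = a := by group
  rw [Y.fixed_count hw2C hw2sq hn2, Y.fixed_count (Y.le hw1P) hw1sq hn1] at hcount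
  have hl := Nat.pow_right_injective le_rfl hcount
  have hs1 := two_mul_lows (S.π_sq (Y.le hw1P) hw1sq)
  have hs2 := two_mul_lows (S.π_sq hw2C hw2sq)
  rw [sgn2_eq_of_support (S.π_sq hw2C hw2sq) (S.π_sq (Y.le hw1P) hw1sq) (by omega),
    hw1, S.π_conj hc (hE.le hw), sgn2_mul, sgn2_mul, add_comm (sgn2 (S.π c)), add_assoc, ← sgn2_mul,
    mul_inv_cancel]
  simp [sgn2]

/-- Some conjugate of `t` in the centraliser moves points. -/
theorem exists_swapped (ht : t * t = 1) (h2 : ∀ H : Subgroup G, H.Normal → H.index ≠ 2) :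
    ∃ a ∈ centralizer ({t} : Set G), IsT t a ∧ S.π a ≠ 1 := by
  by_contra hno
  push Not at hno
  obtain ⟨i⟩ := S.ne
  obtain ⟨a, ha, hx⟩ := S.coord_surj (Y.part_big Y.inv fun i => .inr rfl) Y.inv (fun a h => h.2) (e i)
  have hπ : S.π a = swap i (Y.m i) := by
    refine S.π_coord_e Y.inv ha.2 (Y.fpf i) fun x => ?_
    rw [hx]
    by_cases h1 : x = i
    · subst h1; simp [e_same, e_ne (Y.fpf x)]
    by_cases h2 : x = Y.m i
    · subst h2; simp [Y.inv, e_same, e_ne (Y.fpf i)]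
    have h3 : Y.m x ≠ i := fun h => h2 (by rw [← h, Y.inv])
    simp [e_ne h1, e_ne h3, h1, h2]
  have := Y.χ_trivial ht h2 (χ := fun g => sgn2 (S.π g))
    (fun a b ha hb => by simp only [S.π_mul ha hb, sgn2_mul])
    (fun E hE z hz hzT => Y.sgn_step ht hno hE hz hzT) ha.2.1
    ((Y.part_big Y.inv fun i => .inr rfl).sq a ha)
  simp only [hπ, sgn2, Perm.sign_swap (Ne.symm (Y.fpf i))] at this
  exact absurd this (by decide)

end Syl

end Cfsg.Lib.AltTop
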