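import Cfsg.Agent.AltTopType.Frame

/-! A centraliser with a signed permutation quotient: elementary abelian subgroups. -/

set_option autoImplicit false
set_option linter.unusedSectionVars false
set_option linter.unusedSimpArgs false
set_option linter.style.haveILetI false

namespace Cfsg.Lib.AltTop

open Equiv Subgroup

variable {G : Type*} [Group G] [Finite G]

theorem exists_common {K A B : Subgroup G} (hA : A ≤ K) (hB : B ≤ K) (pA : IsPGroup 2 A)
    (pB : IsPGroup 2 B) : ∃ k ∈ K, ∃ R : Subgroup G, R ≤ K ∧ IsPGroup 2 R ∧ B ≤ R ∧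
      ∀ a ∈ A, k * a * k⁻¹ ∈ R := by
  classical
  haveI : Fact (Nat.Prime 2) := ⟨Nat.prime_two⟩
  obtain ⟨P, hP⟩ := (pA.comap_of_injective K.subtype K.subtype_injective).exists_le_sylow
  obtain ⟨Q, hQ⟩ := (pB.comap_of_injective K.subtype K.subtype_injective).exists_le_sylow
  obtain ⟨k, hk⟩ := MulAction.exists_smul_eq ↥K P Q
  refine ⟨k, k.2, (Q : Subgroup ↥K).map K.subtype, map_subtype_le _, Q.2.map _, ?_, ?_⟩
  · intro b hb
    exact ⟨⟨b, hB hb⟩, hQ hb, rfl⟩
  · intro a ha
    refine ⟨k * ⟨a, hA ha⟩ * k⁻¹, ?_, rfl⟩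
    rw [← hk]
    exact ⟨⟨a, hA ha⟩, hP ha, rfl⟩

/-- A map from the centraliser of `t` onto the signed permutations with kernel of odd order. -/
structure Setting (t : G) (ι : Type*) [Fintype ι] [DecidableEq ι] where
  v : G → Vec ι
  π : G → Perm ι
  π_mul : ∀ {a b : G}, a ∈ centralizer ({t} : Set G) → b ∈ centralizer ({t} : Set G) →
    π (a * b) = π a * π b
  v_mul : ∀ {a b : G}, a ∈ centralizer ({t} : Set G) → b ∈ centralizer ({t} : Set G) →
    v (a * b) = v a + pa (π a) (v b)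
  surj : ∀ (w : Vec ι) (p : Perm ι), ∃ a ∈ centralizer ({t} : Set G), v a = w ∧ π a = p
  ker_odd : ∀ {a : G}, a ∈ centralizer ({t} : Set G) → v a = 0 → π a = 1 → Odd (orderOf a)
  v_t : v t = 1
  π_t : π t = 1
  ev : Even (Fintype.card ι)
  ne : Nonempty ι

variable {t : G} {ι : Type*} [Fintype ι] [DecidableEq ι]

namespace Setting

variable (S : Setting t ι)
include S

theorem t_mem : t ∈ centralizer ({t} : Set G) := mem_centralizer_singleton_iff.2 rfl

theorem π_one : S.π 1 = 1 := by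
  have h := S.π_mul (one_mem (centralizer ({t} : Set G))) (one_mem _)
  rw [one_mul] at h
  exact left_eq_mul.1 h

theorem v_one : S.v 1 = 0 := by
  have h := S.v_mul (one_mem (centralizer ({t} : Set G))) (one_mem _)
  rw [one_mul, S.π_one] at h
  exact left_eq_add.1 (h : S.v 1 = S.v 1 + S.v 1)

theorem π_inv {a : G} (ha : a ∈ centralizer ({t} : Set G)) : S.π a⁻¹ = (S.π a)⁻¹ := by
  refine eq_inv_of_mul_eq_one_left ?_
  rw [← S.π_mul (inv_mem ha) ha, inv_mul_cancel, S.π_one]

theorem v_inv {a : G} (ha : a ∈ centralizer ({t} : Set G)) : S.v a⁻¹ = pa (S.π a)⁻¹ (S.v a) := by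
  have h := S.v_mul (inv_mem ha) ha
  rw [inv_mul_cancel, S.v_one, S.π_inv ha] at h
  exact funext fun i => z2_eq _ _ (congrFun h i).symm

theorem v_conj {a b : G} (ha : a ∈ centralizer ({t} : Set G)) (hb : b ∈ centralizer ({t} : Set G)) :
    S.v (a * b * a⁻¹) = S.v a + pa (S.π a) (S.v b) + pa (S.π a * S.π b * (S.π a)⁻¹) (S.v a) := by
  rw [S.v_mul (mul_mem ha hb) (inv_mem ha), S.v_mul ha hb, S.v_inv ha, S.π_mul ha hb, pa_mul, pa_mul,
    pa_mul]

theorem π_conj {a b : G} (ha : a ∈ centralizer ({t} : Set G)) (hb : b ∈ centralizer ({t} : Set G)) :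
    S.π (a * b * a⁻¹) = S.π a * S.π b * (S.π a)⁻¹ := by
  rw [S.π_mul (mul_mem ha hb) (inv_mem ha), S.π_mul ha hb, S.π_inv ha]

theorem π_sq {a : G} (ha : a ∈ centralizer ({t} : Set G)) (h2 : a * a = 1) :
    ∀ i, S.π a (S.π a i) = i := fun i => by
  have h := S.π_mul ha ha
  rw [h2, S.π_one] at h
  exact (congrArg (fun p : Perm ι => p i) h.symm)

theorem v_sq {a : G} (ha : a ∈ centralizer ({t} : Set G)) (h2 : a * a = 1) (i : ι) :
    S.v a (S.π a i) = S.v a i := by
  have h := congrFun (S.v_mul ha ha) (S.π a i)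
  rw [h2, S.v_one, Pi.add_apply, pa_apply, symm_apply_apply] at h
  exact z2_eq _ _ h.symm

theorem inj_two {P : Subgroup G} (hP : IsPGroup 2 P) (hPC : P ≤ centralizer ({t} : Set G)) {a b : G}
    (ha : a ∈ P) (hb : b ∈ P) (hv : S.v a = S.v b) (hπ : S.π a = S.π b) : a = b := by
  have hd : b⁻¹ * a ∈ P := mul_mem (inv_mem hb) ha
  have h1 : S.π (b⁻¹ * a) = 1 := by
    rw [S.π_mul (inv_mem (hPC hb)) (hPC ha), S.π_inv (hPC hb), hπ, inv_mul_cancel]
  have h2 : S.v (b⁻¹ * a) = 0 := by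
    rw [S.v_mul (inv_mem (hPC hb)) (hPC ha), S.π_inv (hPC hb), S.v_inv (hPC hb), hv, vec_self]
  have hodd := S.ker_odd (hPC hd) h2 h1
  obtain ⟨k, hk⟩ := hP ⟨b⁻¹ * a, hd⟩
  have hk' : (b⁻¹ * a) ^ 2 ^ k = 1 := congrArg Subtype.val hk
  have h3 : orderOf (b⁻¹ * a) = 1 := by
    obtain ⟨j, -, hj⟩ := (Nat.dvd_prime_pow Nat.prime_two).1 (orderOf_dvd_of_pow_eq_one hk')
    rcases j with _ | j
    · simpa using hj
    · rw [hj] at hodd
      exact absurd hodd (Nat.not_odd_iff_even.2 ((Nat.even_pow' (Nat.succ_ne_zero j)).2 even_two))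
  exact (inv_mul_eq_one.1 (orderOf_eq_one_iff.1 h3)).symm

/-- Two involutions with the same image are conjugate in the centraliser. -/
theorem conj_of_image {x y : G} (hx : x ∈ centralizer ({t} : Set G))
    (hy : y ∈ centralizer ({t} : Set G)) (hx2 : x * x = 1) (hy2 : y * y = 1) (hv : S.v x = S.v y)
    (hπ : S.π x = S.π y) : ∃ c ∈ centralizer ({t} : Set G), c * x * c⁻¹ = y := by
  set r := x * y with hr
  have hxinv : x⁻¹ = x := inv_eq_of_mul_eq_one_right hx2
  have hyinv : y⁻¹ = y := inv_eq_of_mul_eq_one_right hy2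
  have hrC : r ∈ centralizer ({t} : Set G) := mul_mem hx hy
  have h1 : S.π r = 1 := by
    rw [hr, S.π_mul hx hy, ← hπ, ← S.π_mul hx hx, hx2, S.π_one]
  have h2 : S.v r = 0 := by
    rw [hr, S.v_mul hx hy, ← hv, ← S.v_mul hx hx, hx2, S.v_one]
  obtain ⟨k, hk⟩ := S.ker_odd hrC h2 h1
  refine ⟨r⁻¹ ^ (k + 1), pow_mem (inv_mem hrC) _, ?_⟩
  have hsc : SemiconjBy x r r⁻¹ := by
    show x * r = r⁻¹ * x
    rw [hr, mul_inv_rev, hxinv, hyinv, ← mul_assoc, hx2, one_mul, mul_assoc, hx2, mul_one]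
  have hpow : r⁻¹ ^ (k + 1) * x = x * r ^ (k + 1) := (hsc.pow_right (k + 1)).eq.symm
  rw [hpow, inv_pow, inv_inv, mul_assoc, ← pow_add, show k + 1 + (k + 1) = orderOf r + 1 by omega,
    pow_succ, pow_orderOf_eq_one, one_mul, hr, ← mul_assoc, hx2, one_mul]

end Setting

/-- An elementary abelian subgroup of the centraliser. -/
structure Elem (t : G) (E : Subgroup G) : Prop where
  le : E ≤ centralizer ({t} : Set G)
  sq : ∀ a ∈ E, a * a = 1

theorem Elem.inv {E : Subgroup G} (hE : Elem t E) {a : G} (ha : a ∈ E) : a⁻¹ = a :=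
  inv_eq_of_mul_eq_one_right (hE.sq a ha)

theorem Elem.comm {E : Subgroup G} (hE : Elem t E) {a b : G} (ha : a ∈ E) (hb : b ∈ E) :
    a * b = b * a := by
  conv_lhs => rw [← hE.inv (mul_mem ha hb), mul_inv_rev, hE.inv ha, hE.inv hb]

theorem Elem.isTwo {E : Subgroup G} (hE : Elem t E) : IsPGroup 2 E :=
  fun a => ⟨1, Subtype.ext (by simpa [pow_two] using hE.sq a a.2)⟩

namespace Setting

variable (S : Setting t ι)
include S

theorem elem_inj {E : Subgroup G} (hE : Elem t E) {a b : G} (ha : a ∈ E) (hb : b ∈ E)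
    (hv : S.v a = S.v b) (hπ : S.π a = S.π b) : a = b :=
  S.inj_two hE.isTwo hE.le ha hb hv hπ

/-- The restriction of the permutation part. -/
def πHom {E : Subgroup G} (hE : E ≤ centralizer ({t} : Set G)) : E →* Perm ι where
  toFun a := S.π a
  map_one' := S.π_one
  map_mul' a b := S.π_mul (hE a.2) (hE b.2)

/-- The bound on elementary abelian subgroups, with the orbit bound in the case of equality. -/
theorem elem_bound {E : Subgroup G} (hE : Elem t E) :
    Nat.card E ≤ 2 ^ Fintype.card ι ∧ (Nat.card E = 2 ^ Fintype.card ι →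
      ∀ a ∈ E, ∀ b ∈ E, ∀ i, S.π a i ≠ i → S.π b i ≠ i → S.π a i = S.π b i) := by
  classical
  let f := S.πHom hE.le
  let P : Subgroup (Perm ι) := f.range
  let Q := MulAction.orbitRel.Quotient P ι
  haveI : Fintype Q := Fintype.ofFinite Q
  let q : ι → Q := fun i => Quotient.mk'' i
  have hq : ∀ {a : G} (ha : a ∈ E) (i : ι), q (S.π a i) = q i := fun {a} ha i =>
    Quotient.sound' ⟨⟨S.π a, ⟨⟨a, ha⟩, rfl⟩⟩, rfl⟩
  have hsurj : ∀ i j, q j = q i → ∃ a ∈ E, S.π a i = j := by
    intro i j h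
    obtain ⟨⟨_, ⟨a, rfl⟩⟩, ha⟩ := Quotient.exact' h
    exact ⟨a, a.2, ha⟩
  let s : Q → ℕ := fun ω => Fintype.card {i // q i = ω}
  have hsum : ∑ ω, s ω = Fintype.card ι := by
    rw [← Fintype.card_sigma]
    exact Fintype.card_congr (Equiv.sigmaFiberEquiv q)
  -- the kernel
  have hker : Nat.card f.ker ≤ 2 ^ Fintype.card Q := by
    have hle := Nat.card_le_card_of_injective (fun (a : f.ker) (ω : Q) => S.v (a : E) ω.out) ?_
    · simpa [Nat.card_eq_fintype_card] using hle
    · intro a b h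
      refine Subtype.ext (Subtype.ext (S.elem_inj hE a.1.2 b.1.2 (funext fun i => ?_)
        ((a.2 : f a = 1).trans (b.2 : f b = 1).symm)))
      have hconst : ∀ (a : f.ker) j, q j = q i → S.v (a : E) j = S.v (a : E) i := by
        intro a j hj
        obtain ⟨c, hc, rfl⟩ := hsurj i j hj
        have h1 := congrFun (S.v_mul (hE.le hc) (hE.le a.1.2)) (S.π c i)
        have h0 : S.π (a : E) = 1 := a.2
        rw [hE.comm hc a.1.2, S.v_mul (hE.le a.1.2) (hE.le hc), h0,
          Pi.add_apply, Pi.add_apply, pa_apply, pa_apply, symm_apply_apply] at h1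
        simp only [Equiv.Perm.one_symm, Equiv.Perm.one_apply] at h1
        rw [add_comm] at h1
        exact add_left_cancel h1
      have hout : q (q i).out = q i := Quotient.out_eq' (q i)
      have := congrFun h (q i)
      simp only at this
      rwa [hconst a _ hout, hconst b _ hout] at this
  -- the image
  have himg : Nat.card P ≤ ∏ ω, s ω := by
    have hle := Nat.card_le_card_of_injective
      (fun (p : P) (ω : Q) => (⟨(p : Perm ι) ω.out, by
        obtain ⟨_, ⟨a, rfl⟩⟩ := p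
        exact (hq a.2 _).trans (Quotient.out_eq' ω)⟩ : {i // q i = ω})) ?_
    · simpa [Nat.card_eq_fintype_card] using hle
    · rintro ⟨_, ⟨a, rfl⟩⟩ ⟨_, ⟨b, rfl⟩⟩ h
      refine Subtype.ext (Equiv.ext fun i => ?_)
      obtain ⟨c, hc, hci⟩ := hsurj (q i).out i (Quotient.out_eq' (q i)).symm
      have h' : f a ((q i).out) = f b ((q i).out) := congrArg Subtype.val (congrFun h (q i))
      have hfc : f ⟨c, hc⟩ ((q i).out) = i := hci
      calc f a i = (f a * f ⟨c, hc⟩) ((q i).out) := by rw [Perm.mul_apply, hfc]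
        _ = (f ⟨c, hc⟩ * f a) ((q i).out) := by
            rw [← map_mul, ← map_mul]
            exact congrArg (fun x => f x _) (Subtype.ext (hE.comm a.2 hc))
        _ = (f ⟨c, hc⟩ * f b) ((q i).out) := by rw [Perm.mul_apply, Perm.mul_apply, h']
        _ = (f b * f ⟨c, hc⟩) ((q i).out) := by
            rw [← map_mul, ← map_mul]
            exact congrArg (fun x => f x _) (Subtype.ext (hE.comm hc b.2))
        _ = f b i := by rw [Perm.mul_apply, hfc]
  have hcard : Nat.card E ≤ ∏ ω : Q, (2 * s ω) := by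
    rw [Subgroup.card_eq_card_quotient_mul_card_subgroup f.ker,
      Nat.card_congr (QuotientGroup.quotientKerEquivRange f).toEquiv, Finset.prod_mul_distrib,
      Finset.prod_const, Finset.card_univ, mul_comm]
    exact Nat.mul_le_mul hker himg
  have hpt : ∀ k : ℕ, 2 * k ≤ 2 ^ k := by
    intro k
    induction k with
    | zero => simp
    | succ k ih =>
      rcases k with _ | k
      · simp
      · have h2 : 2 ≤ 2 ^ (k + 1) := Nat.le_self_pow (by simp) 2
        rw [pow_succ 2 (k + 1)]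
        omega
  have hle : ∏ ω : Q, (2 * s ω) ≤ 2 ^ Fintype.card ι := by
    rw [← hsum, ← Finset.prod_pow_eq_pow_sum]
    exact Finset.prod_le_prod' fun ω _ => hpt _
  refine ⟨hcard.trans hle, fun heq a ha b hb i hai hbi => ?_⟩
  by_contra hne
  have h3 : 3 ≤ s (q i) := by
    have := Finset.card_le_card (s := ({⟨i, rfl⟩, ⟨_, hq ha i⟩, ⟨_, hq hb i⟩} :
      Finset {j // q j = q i})) (Finset.subset_univ _)
    rwa [Finset.card_insert_of_notMem, Finset.card_pair, Finset.card_univ] at this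
    · exact fun h => hne (congrArg Subtype.val h)
    · simp only [Finset.mem_insert, Finset.mem_singleton, Subtype.mk.injEq, not_or]
      exact ⟨Ne.symm hai, Ne.symm hbi⟩
  have hlt : ∏ ω : Q, (2 * s ω) < 2 ^ Fintype.card ι := by
    rw [← hsum, ← Finset.prod_pow_eq_pow_sum]
    refine Finset.prod_lt_prod (fun ω _ => ?_) (fun ω _ => hpt _) ⟨q i, Finset.mem_univ _, ?_⟩
    · have : 0 < s ω := Fintype.card_pos_iff.2 ⟨⟨ω.out, Quotient.out_eq' ω⟩⟩
      omega
    · obtain ⟨k, hk⟩ := Nat.exists_eq_add_of_le h3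
      have := hpt k
      have := Nat.one_le_two_pow (n := k)
      rw [hk, pow_add]
      omega
  omega

end Setting

end Cfsg.Lib.AltTop
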